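import Mathlib
import Cfsg.Agent.H171.ElemDiv
import Cfsg.Agent.H171.Palin
import Cfsg.Agent.H104.SelfDualPoly

/-!
# The type of a linear map

`typ T j` is the product of the monic irreducible polynomials `p` such that `p ^ j` is an elementary divisor of `T`
(with multiplicity).
* `typ_monic`, `typ_zero`, `typ_big`, `sum_typ`;
* `typ_congr` : similar maps have the same type, `exists_equiv_of_typ_eq` : maps of the same type are similar;
* `typ_eval_ne` : no eigenvalue `c` ⇒ `c` is not a root;
* `star_typ` : self-duality of the type of an isometry of a nondegenerate bilinear form;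
* `typ_pal`, `typ_even` : palindromic / of even degree if there is no eigenvalue `1` / `±1`.
-/

set_option autoImplicit false

namespace Cfsg.Agent.H171

open Polynomial Module ElemDiv

open Cfsg.Agent.H104 (star_associated star_monic star_irreducible star_natDegree star_coeff_zero star_star)

section Lin

variable {F : Type*} [Field F] {V : Type*} [AddCommGroup V] [Module F V]
  {W : Type*} [AddCommGroup W] [Module F W]

/-- the polynomials occurring with exponent `j` -/
def part (M : Multiset (F[X] × ℕ)) (j : ℕ) : Multiset F[X] := (M.filter (fun c => c.2 = j)).map Prod.fst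

theorem part_zero (j : ℕ) : part (0 : Multiset (F[X] × ℕ)) j = 0 := rfl

theorem part_cons (c : F[X] × ℕ) (M : Multiset (F[X] × ℕ)) (j : ℕ) :
    part (c ::ₘ M) j = if c.2 = j then c.1 ::ₘ part M j else part M j := by
  unfold part
  split_ifs with h
  · rw [Multiset.filter_cons_of_pos (p := fun c : F[X] × ℕ => c.2 = j) _ h, Multiset.map_cons]
  · rw [Multiset.filter_cons_of_neg (p := fun c : F[X] × ℕ => c.2 = j) _ h]

theorem mem_part {M : Multiset (F[X] × ℕ)} {j : ℕ} {p : F[X]} : p ∈ part M j ↔ (p, j) ∈ M := by
  unfold part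
  rw [Multiset.mem_map]
  constructor
  · rintro ⟨⟨q, k⟩, h1, h2⟩
    rw [Multiset.mem_filter] at h1
    obtain ⟨h1, h3⟩ := h1
    simp only at h3 h2
    subst h3
    subst h2
    exact h1
  · intro h
    exact ⟨(p, j), Multiset.mem_filter.2 ⟨h, rfl⟩, rfl⟩

theorem count_part [DecidableEq F[X]] (M : Multiset (F[X] × ℕ)) (j : ℕ) (p : F[X]) :
    (part M j).count p = M.count (p, j) := by
  induction M using Multiset.induction with
  | empty => rw [part_zero, Multiset.count_zero, Multiset.count_zero]
  | cons c M ih =>
    rw [part_cons, Multiset.count_cons]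
    obtain ⟨r, e⟩ := c
    simp only
    split_ifs with h1 h2 h2
    · rw [Multiset.count_cons, ih, if_pos]
      exact (congrArg Prod.fst h2)
    · rw [Multiset.count_cons, ih, if_neg]
      rintro rfl
      exact h2 (by rw [h1])
    · exact absurd (congrArg Prod.snd h2).symm h1
    · rw [ih, add_zero]

theorem part_monic {M : Multiset (F[X] × ℕ)} (hM : Good M) (j : ℕ) : ∀ p ∈ part M j, p.Monic :=
  fun _ hp => (hM _ (mem_part.1 hp)).1

theorem part_irreducible {M : Multiset (F[X] × ℕ)} (hM : Good M) (j : ℕ) : ∀ p ∈ part M j, Irreducible p :=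
  fun _ hp => (hM _ (mem_part.1 hp)).2.1

theorem part_prod_monic {M : Multiset (F[X] × ℕ)} (hM : Good M) (j : ℕ) : (part M j).prod.Monic := by
  have h := monic_multiset_prod_of_monic (part M j) (fun x => x) (part_monic hM j)
  rwa [Multiset.map_id'] at h

theorem sum_part {M : Multiset (F[X] × ℕ)} (hM : Good M) (n : ℕ) (hn : ∀ c ∈ M, c.2 ≤ n) :
    ∑ j ∈ Finset.range (n + 1), j * (part M j).prod.natDegree = (M.map fun c => c.2 * c.1.natDegree).sum := by
  induction M using Multiset.induction with
  | empty =>
    simp [part_zero]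
  | cons c M ih =>
    have hM' : Good M := fun c hc => hM c (Multiset.mem_cons_of_mem hc)
    have ih' := ih hM' (fun c hc => hn c (Multiset.mem_cons_of_mem hc))
    rw [Multiset.map_cons, Multiset.sum_cons, ← ih']
    have hcn : c.2 ∈ Finset.range (n + 1) := by
      have := hn c (Multiset.mem_cons_self c M)
      rw [Finset.mem_range]
      omega
    rw [← Finset.add_sum_erase _ _ hcn, ← Finset.add_sum_erase (Finset.range (n + 1))
      (fun j => j * (part M j).prod.natDegree) hcn]
    have h1 : (part (c ::ₘ M) c.2).prod.natDegree = c.1.natDegree + (part M c.2).prod.natDegree := by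
      rw [part_cons, if_pos rfl, Multiset.prod_cons]
      exact Monic.natDegree_mul (hM c (Multiset.mem_cons_self c M)).1 (part_prod_monic hM' c.2)
    rw [h1]
    have h2 : ∀ j ∈ (Finset.range (n + 1)).erase c.2, j * (part (c ::ₘ M) j).prod.natDegree =
        j * (part M j).prod.natDegree := by
      intro j hj
      rw [part_cons, if_neg (fun h => (Finset.ne_of_mem_erase hj) h.symm)]
    rw [Finset.sum_congr rfl h2]
    ring

/-- the multisets of irreducibles are determined by the products -/
theorem part_eq_of_prod_eq {M N : Multiset (F[X] × ℕ)} (hM : Good M) (hN : Good N) (j : ℕ)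
    (h : (part M j).prod = (part N j).prod) : part M j = part N j := by
  classical
  have h1 := UniqueFactorizationMonoid.normalizedFactors_prod_eq (part M j) (part_irreducible hM j)
  have h2 := UniqueFactorizationMonoid.normalizedFactors_prod_eq (part N j) (part_irreducible hN j)
  rw [Multiset.map_congr rfl (fun p hp => (part_monic hM j p hp).normalize_eq_self), Multiset.map_id'] at h1
  rw [Multiset.map_congr rfl (fun p hp => (part_monic hN j p hp).normalize_eq_self), Multiset.map_id'] at h2
  rw [← h1, ← h2, h]

theorem eq_of_part_prod_eq {M N : Multiset (F[X] × ℕ)} (hM : Good M) (hN : Good N)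
    (h : ∀ j, (part M j).prod = (part N j).prod) : M = N := by
  classical
  ext ⟨p, j⟩
  rw [← count_part, ← count_part, part_eq_of_prod_eq hM hN j (h j)]

section Typ

variable [FiniteDimensional F V] [FiniteDimensional F W]

/-- a multiset of elementary divisors -/
noncomputable def edm (T : V →ₗ[F] V) : Multiset (F[X] × ℕ) := (exists_isED T).choose

theorem edm_good (T : V →ₗ[F] V) : Good (edm T) := (exists_isED T).choose_spec.1

theorem edm_isED (T : V →ₗ[F] V) : IsED T (edm T) := (exists_isED T).choose_spec.2

/-- the type of a linear map -/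
noncomputable def typ (T : V →ₗ[F] V) (j : ℕ) : F[X] := (part (edm T) j).prod

theorem typ_monic (T : V →ₗ[F] V) (j : ℕ) : (typ T j).Monic := part_prod_monic (edm_good T) j

theorem typ_zero (T : V →ₗ[F] V) : typ T 0 = 1 := by
  have h : part (edm T) 0 = 0 := by
    rw [Multiset.eq_zero_iff_forall_notMem]
    intro p hp
    have h1 := (edm_good T _ (mem_part.1 hp)).2.2
    simp only at h1
    omega
  unfold typ
  rw [h, Multiset.prod_zero]

theorem edm_le (T : V →ₗ[F] V) : ∀ c ∈ edm T, c.2 ≤ finrank F V := by
  intro c hc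
  rw [(edm_isED T).finrank_eq (edm_good T)]
  have h1 : c.2 * c.1.natDegree ≤ ((edm T).map fun c => c.2 * c.1.natDegree).sum :=
    Multiset.le_sum_of_mem (Multiset.mem_map_of_mem (fun c : F[X] × ℕ => c.2 * c.1.natDegree) hc)
  have h2 : 0 < c.1.natDegree := (edm_good T c hc).2.1.natDegree_pos
  calc c.2 = c.2 * 1 := (mul_one _).symm
    _ ≤ c.2 * c.1.natDegree := Nat.mul_le_mul_left _ h2
    _ ≤ _ := h1

theorem typ_big (T : V →ₗ[F] V) {j : ℕ} (hj : finrank F V < j) : typ T j = 1 := by
  have h : part (edm T) j = 0 := by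
    rw [Multiset.eq_zero_iff_forall_notMem]
    intro p hp
    have h1 := edm_le T _ (mem_part.1 hp)
    simp only at h1
    omega
  unfold typ
  rw [h, Multiset.prod_zero]

theorem sum_typ (T : V →ₗ[F] V) {n : ℕ} (hn : finrank F V ≤ n) :
    ∑ j ∈ Finset.range (n + 1), j * (typ T j).natDegree = finrank F V := by
  rw [(edm_isED T).finrank_eq (edm_good T)]
  exact sum_part (edm_good T) n (fun c hc => (edm_le T c hc).trans hn)

/-- **similar maps have the same type** -/
theorem typ_congr {T : V →ₗ[F] V} {U : W →ₗ[F] W} (x : V ≃ₗ[F] W) (hx : ∀ v, x (T v) = U (x v)) :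
    typ T = typ U := by
  have h : edm T = edm U := by
    refine (edm_isED T).unique (edm_good T) (edm_isED U) (edm_good U) (fun a => ?_)
    have hx' : ∀ v, x (aeval T a v) = aeval U a (x v) := by
      intro v
      induction a using Polynomial.induction_on' generalizing v with
      | add a b ha hb => rw [map_add, map_add, LinearMap.add_apply, LinearMap.add_apply, map_add, ha, hb]
      | monomial n r =>
        rw [aeval_monomial, aeval_monomial, Module.End.mul_apply, Module.End.mul_apply,
          Module.algebraMap_end_apply, Module.algebraMap_end_apply, map_smul]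
        congr 1
        induction n generalizing v with
        | zero => simp
        | succ n ih => rw [pow_succ, pow_succ, Module.End.mul_apply, Module.End.mul_apply, ih, hx]
    refine LinearEquiv.finrank_eq (LinearEquiv.ofSubmodules x _ _ ?_)
    ext w
    rw [Submodule.mem_map]
    constructor
    · rintro ⟨v, hv, rfl⟩
      rw [LinearMap.mem_ker] at hv ⊢
      show aeval U a (x v) = 0
      rw [← hx', hv, map_zero]
    · intro hw
      refine ⟨x.symm w, ?_, x.apply_symm_apply w⟩
      rw [LinearMap.mem_ker] at hw ⊢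
      apply x.injective
      rw [hx', x.apply_symm_apply, hw, map_zero]
  unfold typ
  rw [h]

/-- **maps of the same type are similar** -/
theorem exists_equiv_of_typ_eq {T : V →ₗ[F] V} {U : W →ₗ[F] W} (h : ∀ j, typ T j = typ U j) :
    ∃ x : V ≃ₗ[F] W, ∀ v, x (T v) = U (x v) := by
  have h1 : edm T = edm U := eq_of_part_prod_eq (edm_good T) (edm_good U) h
  have h2 := edm_isED T
  rw [h1] at h2
  exact h2.exists_equiv (edm_isED U)

/-- the polynomials of the type kill something -/
theorem exists_ne_zero_of_mem {T : V →ₗ[F] V} {j : ℕ} {p : F[X]} (hp : p ∈ part (edm T) j) :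
    ∃ v, v ≠ 0 ∧ aeval T p v = 0 := by
  classical
  by_contra hcon
  push Not at hcon
  have hinj : ∀ v, aeval T p v = 0 → v = 0 := fun v hv => by
    by_contra h0
    exact hcon v h0 hv
  have hzero : ∀ k : ℕ, finrank F (LinearMap.ker (aeval T (p ^ k))) = 0 := by
    intro k
    have h1 : LinearMap.ker (aeval T (p ^ k)) = ⊥ := by
      rw [LinearMap.ker_eq_bot']
      intro v hv
      induction k generalizing v with
      | zero =>
        rw [pow_zero, map_one] at hv
        exact hv
      | succ k ih =>
        rw [pow_succ, map_mul, Module.End.mul_apply] at hv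
        exact hinj v (ih _ hv)
    rw [h1, finrank_bot]
  have hmem := mem_part.1 hp
  obtain ⟨hp1, hp2, hj⟩ := edm_good T _ hmem
  simp only at hp1 hp2 hj
  obtain ⟨j, rfl⟩ : ∃ k, j = k + 1 := ⟨j - 1, by omega⟩
  have h2 := (edm_isED T).count (edm_good T) hp1 hp2 j
  rw [hzero, hzero, hzero] at h2
  have h3 : 0 < (edm T).count (p, j + 1) := Multiset.count_pos.2 hmem
  have h4 := Nat.mul_pos h3 hp2.natDegree_pos
  omega

theorem eval_prod_ne {P : Multiset F[X]} {c : F} (h : ∀ p ∈ P, p.eval c ≠ 0) : P.prod.eval c ≠ 0 := by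
  induction P using Multiset.induction with
  | empty => rw [Multiset.prod_zero, eval_one]; exact one_ne_zero
  | cons p P ih =>
    rw [Multiset.prod_cons, eval_mul]
    exact mul_ne_zero (h p (Multiset.mem_cons_self p P)) (ih fun q hq => h q (Multiset.mem_cons_of_mem hq))

/-- no eigenvalue `c` ⇒ `c` is no root of the type -/
theorem typ_eval_ne {T : V →ₗ[F] V} {c : F} (hc : ∀ v, T v = c • v → v = 0) (j : ℕ) : (typ T j).eval c ≠ 0 := by
  apply eval_prod_ne
  intro p hp h0
  have h1 : X - C c ∣ p := dvd_iff_isRoot.2 h0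
  have h2 : p = X - C c := by
    apply eq_of_monic_of_associated (part_monic (edm_good T) j p hp) (monic_X_sub_C c)
    exact ((irreducible_X_sub_C c).associated_of_dvd (part_irreducible (edm_good T) j p hp) h1).symm
  obtain ⟨v, hv0, hv⟩ := exists_ne_zero_of_mem hp
  apply hv0
  apply hc
  rw [h2, map_sub, aeval_X, aeval_C, LinearMap.sub_apply, Module.algebraMap_end_apply, sub_eq_zero] at hv
  exact hv

end Typ

end Lin

section Dual

variable {F : Type*} [Field F] {V : Type*} [AddCommGroup V] [Module F V] [FiniteDimensional F V]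

omit [FiniteDimensional F V] in
/-- the adjoint of `a(g)` for an isometry `g` -/
theorem adjoint_aeval (b : V →ₗ[F] V →ₗ[F] F) (g : V ≃ₗ[F] V) (hg : ∀ u v, b (g u) (g v) = b u v) (a : F[X])
    (u v : V) : b (aeval g.toLinearMap a u) ((g.toLinearMap ^ a.natDegree) v) =
      b u (aeval g.toLinearMap a.reverse v) := by
  have hpow : ∀ (i : ℕ) (u v : V), b ((g.toLinearMap ^ i) u) ((g.toLinearMap ^ i) v) = b u v := by
    intro i
    induction i with
    | zero => intro u v; rfl
    | succ i ih =>
      intro u v
      rw [pow_succ, Module.End.mul_apply, Module.End.mul_apply, ih]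
      exact hg u v
  have hpow' : ∀ (i n : ℕ) (_ : i ≤ n) (u v : V), b ((g.toLinearMap ^ i) u) ((g.toLinearMap ^ n) v) =
      b u ((g.toLinearMap ^ (n - i)) v) := by
    intro i n hi u v
    rw [← hpow i u ((g.toLinearMap ^ (n - i)) v), ← Module.End.mul_apply, ← pow_add, Nat.add_sub_cancel' hi]
  rw [aeval_eq_sum_range, aeval_eq_sum_range' (n := a.natDegree + 1) (Nat.lt_succ_of_le (reverse_natDegree_le a)),
    LinearMap.sum_apply, LinearMap.sum_apply, map_sum, map_sum, LinearMap.sum_apply,
    ← Finset.sum_range_reflect (fun i => b u ((a.reverse.coeff i • g.toLinearMap ^ i) v))]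
  refine Finset.sum_congr rfl fun i hi => ?_
  rw [Finset.mem_range, Nat.lt_succ_iff] at hi
  rw [LinearMap.smul_apply, map_smul, LinearMap.smul_apply, hpow' i _ hi,
    show a.natDegree + 1 - 1 - i = a.natDegree - i by omega, LinearMap.smul_apply, map_smul, coeff_reverse,
    revAt_le (by omega), show a.natDegree - (a.natDegree - i) = i by omega]

/-- kernels of `a(g)` and `a.reverse(g)` have the same dimension -/
theorem finrank_ker_reverse (b : V →ₗ[F] V →ₗ[F] F) (hb : ∀ u, (∀ v, b u v = 0) → u = 0) (g : V ≃ₗ[F] V)
    (hg : ∀ u v, b (g u) (g v) = b u v) (a : F[X]) :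
    finrank F (LinearMap.ker (aeval g.toLinearMap a.reverse)) = finrank F (LinearMap.ker (aeval g.toLinearMap a)) := by
  have hinj : Function.Injective b := by
    rw [injective_iff_map_eq_zero]
    intro u hu
    exact hb u (fun v => by rw [hu, LinearMap.zero_apply])
  let e : V ≃ₗ[F] Module.Dual F V := LinearEquiv.ofInjectiveOfFinrankEq (f := b) hinj Subspace.dual_finrank_eq.symm
  have he : ∀ u, e u = b u := fun u => rfl
  have hGsurj : Function.Surjective (g.toLinearMap ^ a.natDegree) := by
    generalize a.natDegree = n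
    induction n with
    | zero => intro v; exact ⟨v, rfl⟩
    | succ n ih =>
      intro v
      obtain ⟨w, hw⟩ := ih v
      obtain ⟨w', rfl⟩ := g.surjective w
      exact ⟨w', by rw [pow_succ, Module.End.mul_apply]; exact hw⟩
  have hker : (LinearMap.ker (aeval g.toLinearMap a)).map e.toLinearMap =
      (LinearMap.range (aeval g.toLinearMap a.reverse)).dualAnnihilator := by
    ext φ
    rw [Submodule.mem_map, Submodule.mem_dualAnnihilator]
    constructor
    · rintro ⟨u, hu, rfl⟩ w hw
      obtain ⟨v, rfl⟩ := LinearMap.mem_range.1 hw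
      rw [LinearMap.mem_ker] at hu
      show b u _ = 0
      rw [← adjoint_aeval b g hg, hu, map_zero, LinearMap.zero_apply]
    · intro hφ
      refine ⟨e.symm φ, ?_, e.apply_symm_apply φ⟩
      rw [LinearMap.mem_ker]
      apply hb
      intro v
      obtain ⟨v, rfl⟩ := hGsurj v
      rw [adjoint_aeval b g hg, ← he, e.apply_symm_apply]
      exact hφ _ (LinearMap.mem_range_self _ v)
  have h1 := Subspace.finrank_add_finrank_dualAnnihilator_eq (LinearMap.range (aeval g.toLinearMap a.reverse))
  rw [← hker, LinearEquiv.finrank_map_eq] at h1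
  have h2 := LinearMap.finrank_range_add_finrank_ker (aeval g.toLinearMap a.reverse)
  omega

theorem star_mul (f g : F[X]) : H104.star (f * g) = H104.star f * H104.star g := by
  unfold H104.star
  rw [mul_coeff_zero, mul_inv, C_mul, reverse_mul_of_domain]
  ring

theorem star_one : H104.star (1 : F[X]) = 1 := by
  unfold H104.star
  rw [coeff_one_zero, inv_one, C_1, one_mul, ← C_1, reverse_C]

theorem star_prod (P : Multiset F[X]) : (P.map H104.star).prod = H104.star P.prod := by
  induction P using Multiset.induction with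
  | empty => rw [Multiset.map_zero, Multiset.prod_zero, star_one]
  | cons p P ih => rw [Multiset.map_cons, Multiset.prod_cons, Multiset.prod_cons, star_mul, ih]

theorem star_pow (f : F[X]) (n : ℕ) : H104.star (f ^ n) = H104.star f ^ n := by
  induction n with
  | zero => rw [pow_zero, pow_zero, star_one]
  | succ n ih => rw [pow_succ, pow_succ, star_mul, ih]

/-- kernels for `star` -/
theorem finrank_ker_star (b : V →ₗ[F] V →ₗ[F] F) (hb : ∀ u, (∀ v, b u v = 0) → u = 0) (g : V ≃ₗ[F] V)
    (hg : ∀ u v, b (g u) (g v) = b u v) (a : F[X]) (ha : a.coeff 0 ≠ 0) :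
    finrank F (LinearMap.ker (aeval g.toLinearMap (H104.star a))) = finrank F (LinearMap.ker (aeval g.toLinearMap a)) := by
  rw [← finrank_ker_reverse b hb g hg a]
  have h : LinearMap.ker (aeval g.toLinearMap (H104.star a)) = LinearMap.ker (aeval g.toLinearMap a.reverse) := by
    ext v
    rw [LinearMap.mem_ker, LinearMap.mem_ker, H104.star, map_mul, Module.End.mul_apply, aeval_C,
      Module.algebraMap_end_apply, smul_eq_zero]
    simp [ha]
  rw [h]

/-- **Self-duality of the type of an isometry.** -/
theorem star_typ (b : V →ₗ[F] V →ₗ[F] F) (hb : ∀ u, (∀ v, b u v = 0) → u = 0) (g : V ≃ₗ[F] V)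
    (hg : ∀ u v, b (g u) (g v) = b u v) (j : ℕ) : H104.star (typ g.toLinearMap j) = typ g.toLinearMap j := by
  classical
  have hgood := edm_good g.toLinearMap
  set M := edm g.toLinearMap with hM
  have hc0 : ∀ p ∈ part M j, p.coeff 0 ≠ 0 := by
    intro p hp h0
    have h1 : X ∣ p := X_dvd_iff.2 h0
    have h2 : p = X := by
      apply eq_of_monic_of_associated (part_monic hgood j p hp) monic_X
      exact (irreducible_X.associated_of_dvd (part_irreducible hgood j p hp) h1).symm
    obtain ⟨v, hv0, hv⟩ := exists_ne_zero_of_mem hp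
    apply hv0
    rw [h2, aeval_X] at hv
    exact g.map_eq_zero_iff.1 hv
  have hj : ∀ p ∈ part M j, 1 ≤ j := fun p hp => (hgood _ (mem_part.1 hp)).2.2
  have hcount : ∀ p ∈ part M j, (part M j).count (H104.star p) = (part M j).count p := by
    intro p hp
    have hp0 := hc0 p hp
    have hp1 := part_monic hgood j p hp
    have hp2 := part_irreducible hgood j p hp
    obtain ⟨k, hk⟩ : ∃ k, j = k + 1 := ⟨j - 1, by have := hj p hp; omega⟩
    rw [count_part, count_part, hk]
    have h1 := (edm_isED g.toLinearMap).count hgood hp1 hp2 k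
    have h2 := (edm_isED g.toLinearMap).count hgood (star_monic hp0) (star_irreducible hp2 hp0) k
    have hpc : ∀ n : ℕ, (p ^ n).coeff 0 ≠ 0 := by
      intro n
      rw [← constantCoeff_apply, map_pow, constantCoeff_apply]
      exact pow_ne_zero _ hp0
    rw [← star_pow, ← star_pow, ← star_pow, finrank_ker_star b hb g hg _ (hpc _),
      finrank_ker_star b hb g hg _ (hpc _), finrank_ker_star b hb g hg _ (hpc _), star_natDegree hp0] at h2
    rw [← hM] at h1 h2
    have h3 : M.count (H104.star p, k + 1) * p.natDegree = M.count (p, k + 1) * p.natDegree := by omega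
    exact Nat.eq_of_mul_eq_mul_right hp2.natDegree_pos h3
  have hmap : (part M j).map H104.star = part M j := by
    apply Multiset.eq_of_le_of_card_le
    · rw [Multiset.le_iff_count]
      intro a
      by_cases ha : a ∈ (part M j).map H104.star
      · obtain ⟨p, hp, rfl⟩ := Multiset.mem_map.1 ha
        rw [Multiset.count_map_eq_count H104.star _ (fun x hx y hy hxy => ?_) p hp, hcount p hp]
        rw [← star_star (part_monic hgood j x hx) (hc0 x hx), ← star_star (part_monic hgood j y hy) (hc0 y hy), hxy]
      · rw [Multiset.count_eq_zero_of_notMem ha]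
        exact Nat.zero_le _
    · rw [Multiset.card_map]
  show H104.star (part M j).prod = (part M j).prod
  rw [← star_prod, hmap]

/-- **The type is palindromic if there is no eigenvalue `1`.** -/
theorem typ_pal (b : V →ₗ[F] V →ₗ[F] F) (hb : ∀ u, (∀ v, b u v = 0) → u = 0) (g : V ≃ₗ[F] V)
    (hg : ∀ u v, b (g u) (g v) = b u v) (h1 : ∀ v, g v = v → v = 0) (j : ℕ) : Pal (typ g.toLinearMap j) := by
  refine ⟨typ_monic _ j, ?_⟩
  have h2 : (typ g.toLinearMap j).eval 1 ≠ 0 := typ_eval_ne (fun v hv => h1 v (by rw [one_smul] at hv; exact hv)) j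
  have h3 := star_typ b hb g hg j
  set f := typ g.toLinearMap j
  have h4 : f.reverse.eval 1 = f.eval 1 := by
    have hinv : Invertible (1 : F) := invertibleOne
    have h5 := eval₂_reverse_mul_pow (RingHom.id F) 1 f
    simpa [eval₂_eq_eval_map] using h5
  have h6 : (f.coeff 0)⁻¹ * f.eval 1 = f.eval 1 := by
    have h7 : (H104.star f).eval 1 = f.eval 1 := by rw [h3]
    unfold H104.star at h7
    rwa [eval_mul, eval_C, h4] at h7
  have h8 : (f.coeff 0)⁻¹ = 1 := by
    have h9 : ((f.coeff 0)⁻¹ - 1) * f.eval 1 = 0 := by rw [sub_mul, h6, one_mul, sub_self]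
    rcases mul_eq_zero.1 h9 with h | h
    · exact sub_eq_zero.1 h
    · exact absurd h h2
  unfold H104.star at h3
  rwa [h8, C_1, one_mul] at h3

/-- even degrees if there is no eigenvalue `± 1` -/
theorem typ_even (b : V →ₗ[F] V →ₗ[F] F) (hb : ∀ u, (∀ v, b u v = 0) → u = 0) (g : V ≃ₗ[F] V)
    (hg : ∀ u v, b (g u) (g v) = b u v) (h1 : ∀ v, g v = v → v = 0) (h2 : ∀ v, g v = -v → v = 0) (j : ℕ) :
    Even (typ g.toLinearMap j).natDegree := by
  apply (typ_pal b hb g hg h1 j).even_natDegree
  apply typ_eval_ne
  intro v hv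
  rw [neg_one_smul] at hv
  exact h2 v hv

end Dual

end Cfsg.Agent.H171
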