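import Mathlib
import Cfsg.Agent.H171.Typ
import Cfsg.Agent.H193.InvForm

/-!
# Splitting off the part of an isometry with eigenvalue `1` (or `-1`), and gluing

* `exists_fitting`, `exists_fitting_quad` : `V = E ⊥ R`, `g` restricts to `E` (where `g - c` is nilpotent) and to `R` (where
  `c` is no eigenvalue), for an isometry `g` of a nondegenerate reflexive bilinear / quadratic form, `c * c = 1`;
* `glue_bilin`, `glue_quad` : gluing of equivariant isometries;
* `rest_isometry`, `rest_isometry_quad` : without eigenvalues `± 1` the type determines the isometry class;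
* `conj_of_parts_quad`, ...: both together.
-/

set_option autoImplicit false

namespace Cfsg.Agent.H171

open Polynomial Module QuadraticMap

section Fitting

variable {F : Type*} [Field F] {V : Type*} [AddCommGroup V] [Module F V] [FiniteDimensional F V]

/-- **Fitting decomposition of an isometry with respect to an eigenvalue `c = ± 1`.** -/
theorem exists_fitting (b : V →ₗ[F] V →ₗ[F] F) (hb : ∀ u, (∀ v, b u v = 0) → u = 0)
    (hr : ∀ u v, b u v = 0 → b v u = 0) (g : V ≃ₗ[F] V) (hg : ∀ u v, b (g u) (g v) = b u v) (c : F)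
    (hc : c * c = 1) :
    ∃ (E R : Submodule F V) (gE : E ≃ₗ[F] E) (gR : R ≃ₗ[F] R) (N : ℕ),
      IsCompl E R ∧ (∀ u ∈ E, ∀ v ∈ R, b u v = 0) ∧ (∀ u : E, (gE u : V) = g u) ∧ (∀ u : R, (gR u : V) = g u) ∧
      (gE.toLinearMap - c • (1 : Module.End F E) : Module.End F E) ^ N = 0 ∧ (∀ u : R, gR u = c • u → u = 0) ∧
      (∀ u : E, (∀ v : E, b u v = 0) → u = 0) ∧ (∀ u : R, (∀ v : R, b u v = 0) → u = 0) := by
  have hc0 : c ≠ 0 := by
    rintro rfl
    rw [zero_mul] at hc
    exact zero_ne_one hc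
  set n : Module.End F V := g.toLinearMap - c • (1 : Module.End F V) with hn
  have hn1 : ∀ v, n v = g v - c • v := fun v => rfl
  have hgn : ∀ v, g (n v) = n (g v) := fun v => by rw [hn1, hn1, map_sub, map_smul]
  have hgnk : ∀ (k : ℕ) (v : V), g ((n ^ k) v) = (n ^ k) (g v) := by
    intro k
    induction k with
    | zero => intro v; rfl
    | succ k ih => intro v; rw [pow_succ, Module.End.mul_apply, ih, hgn, Module.End.mul_apply]
  have hadj : ∀ u v, b (n u) (g v) = -c * b u (n v) := fun u v => by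
    rw [hn1, hn1, map_sub, map_sub, map_smul, LinearMap.sub_apply, LinearMap.smul_apply, hg, map_smul, smul_eq_mul,
      smul_eq_mul]
    linear_combination -(b u v) * hc
  have hadjk : ∀ (k : ℕ) (u v : V), b ((n ^ k) u) ((g.toLinearMap ^ k) v) = (-c) ^ k * b u ((n ^ k) v) := by
    intro k
    induction k with
    | zero => intro u v; simp
    | succ k ih =>
      intro u v
      rw [pow_succ', Module.End.mul_apply, pow_succ' g.toLinearMap, Module.End.mul_apply]
      show b (n ((n ^ k) u)) (g ((g.toLinearMap ^ k) v)) = _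
      have h1 : n ((g.toLinearMap ^ k) v) = (g.toLinearMap ^ k) (n v) := by
        clear ih
        induction k generalizing v with
        | zero => rfl
        | succ k ih2 =>
          rw [pow_succ, Module.End.mul_apply, ih2, Module.End.mul_apply]
          exact congrArg _ (hgn v).symm
      have h2 : (n ^ k) (n v) = n ((n ^ k) v) := by
        rw [← Module.End.mul_apply, ← Module.End.mul_apply, ← pow_succ, ← pow_succ']
      rw [hadj, h1, ih, h2, Module.End.mul_apply, pow_succ]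
      ring
  obtain ⟨N₀, hN₀⟩ := Filter.eventually_atTop.1 (LinearMap.eventually_isCompl_ker_pow_range_pow n)
  have hcompl := hN₀ (N₀ + 1) (Nat.le_succ _)
  set N := N₀ + 1 with hN
  set E := LinearMap.ker (n ^ N) with hE
  set R := LinearMap.range (n ^ N) with hR
  have horth : ∀ u ∈ E, ∀ v ∈ R, b u v = 0 := by
    intro u hu v hv
    obtain ⟨w, rfl⟩ := LinearMap.mem_range.1 hv
    have h1 := hadjk N u w
    rw [LinearMap.mem_ker.1 hu, map_zero, LinearMap.zero_apply] at h1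
    have h2 : (-c) ^ N ≠ 0 := pow_ne_zero _ (neg_ne_zero.2 hc0)
    exact (mul_eq_zero.1 h1.symm).resolve_left h2
  have hEmap : E.map g.toLinearMap = E := by
    ext w
    rw [Submodule.mem_map]
    constructor
    · rintro ⟨v, hv, rfl⟩
      rw [LinearMap.mem_ker] at hv ⊢
      show (n ^ N) (g v) = 0
      rw [← hgnk, hv, map_zero]
    · intro hw
      refine ⟨g.symm w, ?_, g.apply_symm_apply w⟩
      rw [LinearMap.mem_ker] at hw ⊢
      apply g.injective
      rw [hgnk, g.apply_symm_apply, hw, map_zero]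
  have hRmap : R.map g.toLinearMap = R := by
    ext w
    rw [Submodule.mem_map]
    constructor
    · rintro ⟨v, hv, rfl⟩
      obtain ⟨x, rfl⟩ := LinearMap.mem_range.1 hv
      exact ⟨g x, (hgnk N x).symm⟩
    · intro hw
      obtain ⟨x, rfl⟩ := LinearMap.mem_range.1 hw
      refine ⟨(n ^ N) (g.symm x), LinearMap.mem_range_self _ _, ?_⟩
      show g ((n ^ N) (g.symm x)) = _
      rw [hgnk, g.apply_symm_apply]
  let gE : E ≃ₗ[F] E := g.ofSubmodules E E hEmap
  let gR : R ≃ₗ[F] R := g.ofSubmodules R R hRmap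
  have hgE : ∀ u : E, (gE u : V) = g u := fun u => rfl
  have hgR : ∀ u : R, (gR u : V) = g u := fun u => rfl
  refine ⟨E, R, gE, gR, N, hcompl, horth, hgE, hgR, ?_, ?_, ?_, ?_⟩
  · have h1 : ∀ (k : ℕ) (u : E),
        ((((gE.toLinearMap - c • (1 : Module.End F E) : Module.End F E) ^ k) u : E) : V) = (n ^ k) u := by
      intro k
      induction k with
      | zero => intro u; rfl
      | succ k ih =>
        intro u
        have h2 := ih ((gE.toLinearMap - c • (1 : Module.End F E) : Module.End F E) u)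
        rw [pow_succ, Module.End.mul_apply, h2, pow_succ, Module.End.mul_apply]
        rfl
    ext u
    rw [h1]
    exact LinearMap.mem_ker.1 u.2
  · intro u hu
    have h1 : n (u : V) = 0 := by
      rw [hn1, ← hgR, hu, Submodule.coe_smul, sub_self]
    have h2 : (u : V) ∈ E := by
      rw [LinearMap.mem_ker, hN, pow_succ, Module.End.mul_apply, h1, map_zero]
    have h3 : (u : V) ∈ E ⊓ R := ⟨h2, u.2⟩
    rw [hcompl.inf_eq_bot, Submodule.mem_bot] at h3
    exact Subtype.ext h3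
  · intro u hu
    apply Subtype.ext
    apply hb
    intro v
    have hv : v ∈ E ⊔ R := by rw [hcompl.sup_eq_top]; trivial
    obtain ⟨x, hx, y, hy, rfl⟩ := Submodule.mem_sup.1 hv
    rw [map_add, hu ⟨x, hx⟩, horth u u.2 y hy, add_zero]
  · intro u hu
    apply Subtype.ext
    apply hb
    intro v
    have hv : v ∈ E ⊔ R := by rw [hcompl.sup_eq_top]; trivial
    obtain ⟨x, hx, y, hy, rfl⟩ := Submodule.mem_sup.1 hv
    rw [map_add, hu ⟨y, hy⟩, hr _ _ (horth x hx u u.2), add_zero]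

/-- **Fitting decomposition, quadratic forms.** -/
theorem exists_fitting_quad (Q : QuadraticForm F V) (hQ : (polarBilin Q).Nondegenerate) (g : V ≃ₗ[F] V)
    (hg : ∀ v, Q (g v) = Q v) (c : F) (hc : c * c = 1) :
    ∃ (E R : Submodule F V) (gE : E ≃ₗ[F] E) (gR : R ≃ₗ[F] R) (N : ℕ),
      IsCompl E R ∧ (∀ u ∈ E, ∀ v ∈ R, polar Q u v = 0) ∧ (∀ u : E, (gE u : V) = g u) ∧
      (∀ u : R, (gR u : V) = g u) ∧
      (gE.toLinearMap - c • (1 : Module.End F E) : Module.End F E) ^ N = 0 ∧ (∀ u : R, gR u = c • u → u = 0) ∧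
      (polarBilin (Q.comp E.subtype)).Nondegenerate ∧ (polarBilin (Q.comp R.subtype)).Nondegenerate := by
  have hsym : ∀ u v, polarBilin Q u v = polarBilin Q v u := fun u v => polar_comm Q u v
  have hgB : ∀ u v, polarBilin Q (g u) (g v) = polarBilin Q u v := fun u v => by
    show polar Q (g u) (g v) = polar Q u v
    unfold polar
    rw [← map_add, hg, hg, hg]
  obtain ⟨E, R, gE, gR, N, h1, h2, h3, h4, h5, h6, h7, h8⟩ := exists_fitting (polarBilin Q) hQ.1
    (fun u v h => by rw [hsym, h]) g hgB c hc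
  have key : ∀ (S : Submodule F V), (∀ u : S, (∀ v : S, polarBilin Q u v = 0) → u = 0) →
      (polarBilin (Q.comp S.subtype)).Nondegenerate := by
    intro S hS
    refine ⟨fun u hu => hS u (fun v => ?_), fun u hu => hS u (fun v => ?_)⟩
    · have h9 := hu v
      exact h9
    · have h9 := hu v
      rw [hsym]
      exact h9
  exact ⟨E, R, gE, gR, N, h1, h2, h3, h4, h5, h6, key E h7, key R h8⟩

end Fitting

section Glue

variable {F : Type*} [Field F] {V : Type*} [AddCommGroup V] [Module F V] {V' : Type*} [AddCommGroup V'] [Module F V']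

/-- the linear equivalence glued from two complements -/
theorem exists_glue {E R : Submodule F V} {E' R' : Submodule F V'} (h : IsCompl E R) (h' : IsCompl E' R')
    (zE : E ≃ₗ[F] E') (zR : R ≃ₗ[F] R') :
    ∃ z : V ≃ₗ[F] V', (∀ u : E, z u = zE u) ∧ (∀ u : R, z u = zR u) := by
  let z : V ≃ₗ[F] V' := (Submodule.prodEquivOfIsCompl E R h).symm.trans
    ((LinearEquiv.prodCongr zE zR).trans (Submodule.prodEquivOfIsCompl E' R' h'))
  refine ⟨z, fun u => ?_, fun u => ?_⟩
  · show Submodule.prodEquivOfIsCompl E' R' h' (LinearEquiv.prodCongr zE zR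
      ((Submodule.prodEquivOfIsCompl E R h).symm u)) = _
    rw [Submodule.prodEquivOfIsCompl_symm_apply_left]
    simp
  · show Submodule.prodEquivOfIsCompl E' R' h' (LinearEquiv.prodCongr zE zR
      ((Submodule.prodEquivOfIsCompl E R h).symm u)) = _
    rw [Submodule.prodEquivOfIsCompl_symm_apply_right]
    simp

theorem exists_add_of_isCompl {E R : Submodule F V} (h : IsCompl E R) (v : V) :
    ∃ (x : E) (y : R), v = x + y := by
  have hv : v ∈ E ⊔ R := by rw [h.sup_eq_top]; trivial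
  obtain ⟨x, hx, y, hy, rfl⟩ := Submodule.mem_sup.1 hv
  exact ⟨⟨x, hx⟩, ⟨y, hy⟩, rfl⟩

/-- **Gluing of equivariant isometries, bilinear forms.** -/
theorem glue_bilin (b : V →ₗ[F] V →ₗ[F] F) (b' : V' →ₗ[F] V' →ₗ[F] F)
    (hr : ∀ u v, b u v = 0 → b v u = 0) (hr' : ∀ u v, b' u v = 0 → b' v u = 0)
    (g : V ≃ₗ[F] V) (g' : V' ≃ₗ[F] V')
    {E R : Submodule F V} {E' R' : Submodule F V'} (h : IsCompl E R) (h' : IsCompl E' R')
    (ho : ∀ u ∈ E, ∀ v ∈ R, b u v = 0) (ho' : ∀ u ∈ E', ∀ v ∈ R', b' u v = 0)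
    (gE : E ≃ₗ[F] E) (gR : R ≃ₗ[F] R) (hgE : ∀ u : E, (gE u : V) = g u) (hgR : ∀ u : R, (gR u : V) = g u)
    (gE' : E' ≃ₗ[F] E') (gR' : R' ≃ₗ[F] R') (hgE' : ∀ u : E', (gE' u : V') = g' u)
    (hgR' : ∀ u : R', (gR' u : V') = g' u)
    (zE : E ≃ₗ[F] E') (hzE : ∀ u, zE (gE u) = gE' (zE u)) (hzE' : ∀ u v : E, b' (zE u) (zE v) = b u v)
    (zR : R ≃ₗ[F] R') (hzR : ∀ u, zR (gR u) = gR' (zR u)) (hzR' : ∀ u v : R, b' (zR u) (zR v) = b u v) :
    ∃ z : V ≃ₗ[F] V', (∀ v, z (g v) = g' (z v)) ∧ ∀ u v, b' (z u) (z v) = b u v := by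
  obtain ⟨z, hz1, hz2⟩ := exists_glue h h' zE zR
  refine ⟨z, fun v => ?_, fun u v => ?_⟩
  · obtain ⟨x, y, rfl⟩ := exists_add_of_isCompl h v
    rw [map_add, map_add, map_add, map_add, ← hgE, ← hgR, hz1, hz2, hz1, hz2, hzE, hzR, hgE', hgR']
  · obtain ⟨x, y, rfl⟩ := exists_add_of_isCompl h u
    obtain ⟨x', y', rfl⟩ := exists_add_of_isCompl h v
    simp only [map_add, LinearMap.add_apply, hz1, hz2, hzE', hzR']
    rw [ho' _ (zE x).2 _ (zR y').2, hr' _ _ (ho' _ (zE x').2 _ (zR y).2), ho _ x.2 _ y'.2,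
      hr _ _ (ho _ x'.2 _ y.2)]

/-- **Gluing of equivariant isometries, quadratic forms.** -/
theorem glue_quad (Q : QuadraticForm F V) (Q' : QuadraticForm F V')
    (g : V ≃ₗ[F] V) (g' : V' ≃ₗ[F] V')
    {E R : Submodule F V} {E' R' : Submodule F V'} (h : IsCompl E R) (h' : IsCompl E' R')
    (ho : ∀ u ∈ E, ∀ v ∈ R, polar Q u v = 0) (ho' : ∀ u ∈ E', ∀ v ∈ R', polar Q' u v = 0)
    (gE : E ≃ₗ[F] E) (gR : R ≃ₗ[F] R) (hgE : ∀ u : E, (gE u : V) = g u) (hgR : ∀ u : R, (gR u : V) = g u)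
    (gE' : E' ≃ₗ[F] E') (gR' : R' ≃ₗ[F] R') (hgE' : ∀ u : E', (gE' u : V') = g' u)
    (hgR' : ∀ u : R', (gR' u : V') = g' u)
    (zE : E ≃ₗ[F] E') (hzE : ∀ u, zE (gE u) = gE' (zE u)) (hzE' : ∀ u : E, Q' (zE u : V') = Q (u : V))
    (zR : R ≃ₗ[F] R') (hzR : ∀ u, zR (gR u) = gR' (zR u)) (hzR' : ∀ u : R, Q' (zR u : V') = Q (u : V)) :
    ∃ z : V ≃ₗ[F] V', (∀ v, z (g v) = g' (z v)) ∧ ∀ v, Q' (z v) = Q v := by
  obtain ⟨z, hz1, hz2⟩ := exists_glue h h' zE zR
  refine ⟨z, fun v => ?_, fun v => ?_⟩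
  · obtain ⟨x, y, rfl⟩ := exists_add_of_isCompl h v
    rw [map_add, map_add, map_add, map_add, ← hgE, ← hgR, hz1, hz2, hz1, hz2, hzE, hzR, hgE', hgR']
  · obtain ⟨x, y, rfl⟩ := exists_add_of_isCompl h v
    rw [map_add, hz1, hz2, QuadraticMap.map_add Q, QuadraticMap.map_add Q', hzE', hzR', ho _ x.2 _ y.2,
      ho' _ (zE x).2 _ (zR y).2]

end Glue

section Rest

variable {F : Type*} [Field F] {V : Type*} [AddCommGroup V] [Module F V] [FiniteDimensional F V]
  {W : Type*} [AddCommGroup W] [Module F W] [FiniteDimensional F W]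

omit [FiniteDimensional F V] in
/-- no eigenvalue `± 1` ⇒ no fixed vector of the square -/
theorem sq_fix (g : V ≃ₗ[F] V) (h1 : ∀ v, g v = v → v = 0) (h2 : ∀ v, g v = -v → v = 0) :
    ∀ v, g (g v) = v → v = 0 := by
  intro v hv
  apply h2
  have h3 : g v + v = 0 := by
    apply h1
    rw [map_add, hv, add_comm]
  exact eq_neg_of_add_eq_zero_left h3

/-- **Without eigenvalues `± 1` the type determines the isometry class: `ε`-symmetric bilinear forms.** -/
theorem rest_isometry [Finite F] (b : V →ₗ[F] V →ₗ[F] F) (b' : W →ₗ[F] W →ₗ[F] F) (ε : F)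
    (hb : ∀ u, (∀ v, b u v = 0) → u = 0) (hb' : ∀ u, (∀ v, b' u v = 0) → u = 0)
    (hs : ∀ u v, b v u = ε * b u v) (hs' : ∀ u v, b' v u = ε * b' u v)
    (g : V ≃ₗ[F] V) (h : W ≃ₗ[F] W) (hg : ∀ u v, b (g u) (g v) = b u v) (hh : ∀ u v, b' (h u) (h v) = b' u v)
    (hf : ∀ v, g (g v) = v → v = 0) (ht : ∀ j, typ g.toLinearMap j = typ h.toLinearMap j) :
    ∃ z : V ≃ₗ[F] W, (∀ v, z (g v) = h (z v)) ∧ ∀ u v, b' (z u) (z v) = b u v := by
  obtain ⟨x, hx⟩ := exists_equiv_of_typ_eq ht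
  exact Cfsg.Agent.H193.InvForm.exists_isometry b b' ε hb hb' hs hs' g h hg hh hf x hx

/-- **Without eigenvalues `± 1` the type determines the isometry class: quadratic forms.** -/
theorem rest_isometry_quad [Finite F] (Q : QuadraticForm F V) (Q' : QuadraticForm F W)
    (hQ : (polarBilin Q).Nondegenerate) (hQ' : (polarBilin Q').Nondegenerate)
    (g : V ≃ₗ[F] V) (h : W ≃ₗ[F] W) (hg : ∀ v, Q (g v) = Q v) (hh : ∀ v, Q' (h v) = Q' v)
    (hf : ∀ v, g (g v) = v → v = 0) (ht : ∀ j, typ g.toLinearMap j = typ h.toLinearMap j) :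
    ∃ z : V ≃ₗ[F] W, (∀ v, z (g v) = h (z v)) ∧ ∀ v, Q' (z v) = Q v := by
  obtain ⟨x, hx⟩ := exists_equiv_of_typ_eq ht
  exact Cfsg.Agent.H193.InvForm.exists_isometry_quad Q Q' hQ hQ' g h hg hh hf x hx

end Rest

end Cfsg.Agent.H171
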