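import Mathlib

/-!
# Class numbers of subgroups of index two

`two_card_eq`: if `H` has index two in `G` then `2 k(H) = k(G) + 3 s`, `s` the number of classes of `G` consisting of
elements whose centralizer lies in `H`.
-/

set_option autoImplicit false

namespace Cfsg.Agent.H171

open scoped Classical in
/-- the commuting pairs whose first member lies in given classes -/
theorem card_good_pairs {G : Type*} [Group G] [Finite G] (good : ConjClasses G → Prop) :
    Nat.card {p : G × G // good (ConjClasses.mk p.1) ∧ Commute p.1 p.2} =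
      Nat.card {c : ConjClasses G // good c} * Nat.card G := by
  have e1 : {p : G × G // good (ConjClasses.mk p.1) ∧ Commute p.1 p.2} ≃
      Σ c : {c : ConjClasses G // good c}, {p : G × G // ConjClasses.mk p.1 = c.1 ∧ Commute p.1 p.2} :=
    { toFun := fun p => ⟨⟨ConjClasses.mk p.1.1, p.2.1⟩, ⟨p.1, rfl, p.2.2⟩⟩
      invFun := fun q => ⟨q.2.1, by rw [q.2.2.1]; exact q.1.2, q.2.2.2⟩
      left_inv := fun p => rfl
      right_inv := by
        rintro ⟨⟨c, hc⟩, ⟨p, hp1, hp2⟩⟩
        simp only at hp1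
        subst hp1
        rfl }
  have e2 : ∀ c : {c : ConjClasses G // good c},
      Nat.card {p : G × G // ConjClasses.mk p.1 = c.1 ∧ Commute p.1 p.2} = Nat.card G := by
    rintro ⟨c, hc⟩
    obtain ⟨x₀, rfl⟩ := ConjClasses.mk_surjective c
    let t : G → G := fun x => if h : ∃ g, g * x₀ * g⁻¹ = x then h.choose else 1
    have ht : ∀ x, ConjClasses.mk x = ConjClasses.mk x₀ → t x * x₀ * (t x)⁻¹ = x := by
      intro x hx
      have h : ∃ g, g * x₀ * g⁻¹ = x := by
        have h1 := (ConjClasses.mk_eq_mk_iff_isConj.1 hx).symm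
        exact isConj_iff.1 h1
      show (if h : ∃ g, g * x₀ * g⁻¹ = x then h.choose else 1) * x₀ *
        (if h : ∃ g, g * x₀ * g⁻¹ = x then h.choose else 1)⁻¹ = x
      rw [dif_pos h]
      exact h.choose_spec
    have hg : ∀ g : G, ConjClasses.mk (g * x₀ * g⁻¹) = ConjClasses.mk x₀ := fun g =>
      ConjClasses.mk_eq_mk_iff_isConj.2 (isConj_iff.2 ⟨g, rfl⟩).symm
    have key : ∀ (x y : G), Commute x y → ConjClasses.mk x = ConjClasses.mk x₀ →
        (y * t x) * x₀ * (y * t x)⁻¹ = x := by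
      intro x y hxy hx
      rw [mul_inv_rev]
      calc y * t x * x₀ * ((t x)⁻¹ * y⁻¹) = y * (t x * x₀ * (t x)⁻¹) * y⁻¹ := by group
        _ = y * x * y⁻¹ := by rw [ht x hx]
        _ = x := by rw [← hxy.eq, mul_inv_cancel_right]
    refine Nat.card_congr
      { toFun := fun p => p.1.2 * t p.1.1
        invFun := fun g => ⟨(g * x₀ * g⁻¹, g * (t (g * x₀ * g⁻¹))⁻¹), hg g, ?_⟩
        left_inv := ?_
        right_inv := ?_ }
    · show (g * x₀ * g⁻¹) * (g * (t (g * x₀ * g⁻¹))⁻¹) = (g * (t (g * x₀ * g⁻¹))⁻¹) * (g * x₀ * g⁻¹)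
      have h1 := ht (g * x₀ * g⁻¹) (hg g)
      calc (g * x₀ * g⁻¹) * (g * (t (g * x₀ * g⁻¹))⁻¹) = g * x₀ * (t (g * x₀ * g⁻¹))⁻¹ := by group
        _ = g * (t (g * x₀ * g⁻¹))⁻¹ * (t (g * x₀ * g⁻¹) * x₀ * (t (g * x₀ * g⁻¹))⁻¹) := by group
        _ = _ := by rw [h1]
    · rintro ⟨⟨x, y⟩, hx, hxy⟩
      apply Subtype.ext
      simp only at hx hxy ⊢
      rw [key x y hxy hx, mul_inv_cancel_right]
    · intro g
      simp only
      rw [inv_mul_cancel_right]
  have hfin : Finite {c : ConjClasses G // good c} := inferInstance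
  have := Fintype.ofFinite {c : ConjClasses G // good c}
  rw [Nat.card_congr e1, Nat.card_sigma, Finset.sum_congr rfl (fun c _ => e2 c), Finset.sum_const, smul_eq_mul,
    Finset.card_univ, Nat.card_eq_fintype_card (α := {c : ConjClasses G // good c})]

open scoped Classical in
/-- **Class number of a subgroup of index two.** -/
theorem two_card_eq {G : Type*} [Group G] [Finite G] (H : Subgroup G) (hH : H.index = 2) :
    2 * Nat.card (ConjClasses H) = Nat.card (ConjClasses G) +
      3 * Nat.card {c : ConjClasses G // ∀ x, ConjClasses.mk x = c → Subgroup.centralizer {x} ≤ H} := by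
  have hmul : ∀ a b : G, a * b ∈ H ↔ (a ∈ H ↔ b ∈ H) := fun a b => Subgroup.mul_mem_iff_of_index_two hH
  have hcardG : Nat.card G = Nat.card H * 2 := by
    rw [← hH]
    exact (Subgroup.card_mul_index H).symm
  -- all pairs
  have hG := card_good_pairs (G := G) (fun _ => True)
  have hG' : Nat.card {c : ConjClasses G // True} = Nat.card (ConjClasses G) :=
    Nat.card_congr (Equiv.subtypeUnivEquiv fun _ => trivial)
  rw [hG'] at hG
  have hHp := card_good_pairs (G := H) (fun _ => True)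
  have hH' : Nat.card {c : ConjClasses H // True} = Nat.card (ConjClasses H) :=
    Nat.card_congr (Equiv.subtypeUnivEquiv fun _ => trivial)
  rw [hH'] at hHp
  have hs := card_good_pairs (G := G) (fun c => ∀ x, ConjClasses.mk x = c → Subgroup.centralizer {x} ≤ H)
  set s := Nat.card {c : ConjClasses G // ∀ x, ConjClasses.mk x = c → Subgroup.centralizer {x} ≤ H}
  -- the four parts
  let HH := {p : G × G // p.1 ∈ H ∧ p.2 ∈ H ∧ Commute p.1 p.2}
  let HN := {p : G × G // p.1 ∈ H ∧ p.2 ∉ H ∧ Commute p.1 p.2}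
  let NH := {p : G × G // p.1 ∉ H ∧ p.2 ∈ H ∧ Commute p.1 p.2}
  let NN := {p : G × G // p.1 ∉ H ∧ p.2 ∉ H ∧ Commute p.1 p.2}
  have e1 : {p : G × G // True ∧ Commute p.1 p.2} ≃ (HH ⊕ HN) ⊕ (NH ⊕ NN) :=
    { toFun := fun p =>
        if h1 : p.1.1 ∈ H then
          if h2 : p.1.2 ∈ H then Sum.inl (Sum.inl ⟨p.1, h1, h2, p.2.2⟩) else Sum.inl (Sum.inr ⟨p.1, h1, h2, p.2.2⟩)
        else
          if h2 : p.1.2 ∈ H then Sum.inr (Sum.inl ⟨p.1, h1, h2, p.2.2⟩) else Sum.inr (Sum.inr ⟨p.1, h1, h2, p.2.2⟩)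
      invFun := Sum.elim (Sum.elim (fun p => ⟨p.1, trivial, p.2.2.2⟩) (fun p => ⟨p.1, trivial, p.2.2.2⟩))
        (Sum.elim (fun p => ⟨p.1, trivial, p.2.2.2⟩) (fun p => ⟨p.1, trivial, p.2.2.2⟩))
      left_inv := by
        rintro ⟨p, hp⟩
        by_cases h1 : p.1 ∈ H <;> by_cases h2 : p.2 ∈ H <;> simp [h1, h2]
      right_inv := by
        rintro ((p | p) | (p | p)) <;> simp [p.2.1, p.2.2.1] }
  have e2 : {p : H × H // True ∧ Commute p.1 p.2} ≃ HH :=
    { toFun := fun p => ⟨(p.1.1, p.1.2), p.1.1.2, p.1.2.2, congrArg Subtype.val p.2.2.eq⟩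
      invFun := fun p => ⟨(⟨p.1.1, p.2.1⟩, ⟨p.1.2, p.2.2.1⟩), trivial, Subtype.ext p.2.2.2.eq⟩
      left_inv := fun p => rfl
      right_inv := fun p => rfl }
  have e3 : NH ≃ HN :=
    { toFun := fun p => ⟨(p.1.2, p.1.1), p.2.2.1, p.2.1, p.2.2.2.symm⟩
      invFun := fun p => ⟨(p.1.2, p.1.1), p.2.2.1, p.2.1, p.2.2.2.symm⟩
      left_inv := fun p => rfl
      right_inv := fun p => rfl }
  have e4 : NN ≃ HN :=
    { toFun := fun p => ⟨(p.1.1 * p.1.2, p.1.2), (hmul _ _).2 ⟨fun h => absurd h p.2.1, fun h => absurd h p.2.2.1⟩,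
        p.2.2.1, p.2.2.2.mul_left (Commute.refl _)⟩
      invFun := fun p => ⟨(p.1.1 * p.1.2⁻¹, p.1.2), fun h => p.2.2.1 (H.inv_mem_iff.1 (((hmul _ _).1 h).1 p.2.1)),
        p.2.2.1, p.2.2.2.mul_left ((Commute.refl _).inv_left)⟩
      left_inv := fun p => by
        apply Subtype.ext
        simp
      right_inv := fun p => by
        apply Subtype.ext
        simp }
  -- pairs with centralizer inside `H`
  let GG := {p : G × G // (∀ x, ConjClasses.mk x = ConjClasses.mk p.1 → Subgroup.centralizer {x} ≤ H) ∧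
    Commute p.1 p.2}
  have hconj : ∀ x g : G, Subgroup.centralizer {x} ≤ H → Subgroup.centralizer {g * x * g⁻¹} ≤ H := by
    intro x g hx y hy
    have hnorm : H.Normal := Subgroup.normal_of_index_eq_two hH
    have h1 : g⁻¹ * y * g ∈ Subgroup.centralizer {x} := by
      rw [Subgroup.mem_centralizer_singleton_iff] at hy ⊢
      have h2 : y * (g * x * g⁻¹) = (g * x * g⁻¹) * y := hy
      calc g⁻¹ * y * g * x = g⁻¹ * (y * (g * x * g⁻¹)) * g := by group
        _ = g⁻¹ * ((g * x * g⁻¹) * y) * g := by rw [h2]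
        _ = x * (g⁻¹ * y * g) := by group
    have h3 := hnorm.conj_mem _ (hx h1) g
    rwa [show g * (g⁻¹ * y * g) * g⁻¹ = y by group] at h3
  have hiff : ∀ x₀ : G, (∀ x, ConjClasses.mk x = ConjClasses.mk x₀ → Subgroup.centralizer {x} ≤ H) ↔
      Subgroup.centralizer {x₀} ≤ H := by
    intro x₀
    constructor
    · intro h
      exact h x₀ rfl
    · intro h x hx
      obtain ⟨g, rfl⟩ := isConj_iff.1 (ConjClasses.mk_eq_mk_iff_isConj.1 hx).symm
      exact hconj x₀ g h
  -- for `x` in `H` with centralizer not inside `H` choose `u x` in the centralizer outside `H`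
  let u : G → G := fun x => if h : ∃ y, Commute x y ∧ y ∉ H then h.choose else 1
  have hu : ∀ x, ¬ Subgroup.centralizer {x} ≤ H → Commute x (u x) ∧ u x ∉ H := by
    intro x hx
    have h : ∃ y, Commute x y ∧ y ∉ H := by
      rw [SetLike.not_le_iff_exists] at hx
      obtain ⟨y, hy1, hy2⟩ := hx
      rw [Subgroup.mem_centralizer_singleton_iff] at hy1
      exact ⟨y, hy1.symm, hy2⟩
    show Commute x (if h : ∃ y, Commute x y ∧ y ∉ H then h.choose else 1) ∧
      (if h : ∃ y, Commute x y ∧ y ∉ H then h.choose else 1) ∉ H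
    rw [dif_pos h]
    exact h.choose_spec
  have hcen : ∀ x : G, Subgroup.centralizer {x} ≤ H → ∀ y, Commute x y → y ∈ H := by
    intro x hx y hy
    apply hx
    rw [Subgroup.mem_centralizer_singleton_iff]
    exact hy.symm
  have e5 : HH ≃ HN ⊕ GG :=
    { toFun := fun p =>
        if h : Subgroup.centralizer {p.1.1} ≤ H then Sum.inr ⟨p.1, (hiff _).2 h, p.2.2.2⟩
        else Sum.inl ⟨(p.1.1, p.1.2 * u p.1.1), p.2.1,
          fun hh => (hu _ h).2 (((hmul _ _).1 hh).1 p.2.2.1), p.2.2.2.mul_right (hu _ h).1⟩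
      invFun := Sum.elim (fun p => ⟨(p.1.1, p.1.2 * (u p.1.1)⁻¹), p.2.1, by
          have hn : ¬ Subgroup.centralizer {p.1.1} ≤ H := fun h => p.2.2.1 (hcen _ h _ p.2.2.2)
          have h1 := hu _ hn
          exact ⟨(hmul _ _).2 ⟨fun h => absurd h p.2.2.1, fun h => absurd (H.inv_mem_iff.1 h) h1.2⟩,
            p.2.2.2.mul_right h1.1.inv_right⟩⟩)
        (fun p => ⟨p.1, hcen _ ((hiff _).1 p.2.1) _ (Commute.refl _), hcen _ ((hiff _).1 p.2.1) _ p.2.2, p.2.2⟩)
      left_inv := by
        rintro ⟨p, hp⟩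
        by_cases h : Subgroup.centralizer {p.1} ≤ H
        · simp [h]
        · simp [h]
      right_inv := by
        rintro (p | p)
        · have hn : ¬ Subgroup.centralizer {p.1.1} ≤ H := fun h => p.2.2.1 (hcen _ h _ p.2.2.2)
          simp [hn]
        · have h : Subgroup.centralizer {p.1.1} ≤ H := (hiff _).1 p.2.1
          simp [h] }
  have c1 := Nat.card_congr e1
  rw [Nat.card_sum, Nat.card_sum, Nat.card_sum, Nat.card_congr e3, Nat.card_congr e4] at c1
  have c2 := Nat.card_congr e2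
  have c5 := Nat.card_congr e5
  rw [Nat.card_sum] at c5
  have c6 : Nat.card GG = s * Nat.card G := hs
  rw [c6] at c5
  rw [c1] at hG
  rw [c2] at hHp
  have hpos : 0 < Nat.card H := Nat.card_pos
  rw [hcardG] at hG c5
  have h7 : (2 * Nat.card (ConjClasses H)) * (Nat.card H * 2) =
      (Nat.card (ConjClasses G) + 3 * s) * (Nat.card H * 2) := by
    rw [add_mul, ← hG]
    have h8 : Nat.card HH = Nat.card (ConjClasses H) * Nat.card H := hHp
    nlinarith
  exact Nat.eq_of_mul_eq_mul_right (by omega) h7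

end Cfsg.Agent.H171
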