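import Mathlib
import Cfsg.Agent.H171.ClassSplit
import Cfsg.Agent.ClassicalGeometry.OmegaIndex
import Cfsg.Agent.ClassicalGeometry.Universal

/-!
# The class number of `Ω(Q)`, odd dimension, odd characteristic

* `four_card_eq` : `4 k(Ω) = k(O) + 3 s`, `s` = number of classes of `O` consisting of elements `x` with
  `C_O(x) ≤ Ω ∪ -Ω`;
* `Splits Q x` : there are `v, w` with `Q v Q w` a non-square (nonzero) and `x v = ± v`, `x w = ± w`;
* `four_card_le` : `4 k(Ω) ≤ k(O) + 3 s'`, `s'` = number of classes of non-split elements;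
* `splits_of_pair` : two orthogonal nonsingular vectors in the same eigenspace for `± 1` ⇒ split.
-/

set_option autoImplicit false

namespace Cfsg.Agent.H171.OmegaSplit

open Matrix QuadraticMap Cfsg.Agent.H171
open Cfsg.Agent.ClassicalGeometry.Reflection Cfsg.Agent.ClassicalGeometry.SpinorSign
open Cfsg.Agent.ClassicalGeometry.OmegaIndex

universe u

variable {ι : Type} [Fintype ι] [DecidableEq ι] {F : Type u} [Field F]

/-- The isometry `-1`. -/
def ng (Q : QuadraticForm F (ι → F)) : isometryGroup F (⇑Q) :=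
  ⟨-1, (mem_isometryGroup_iff _ _).2 fun v => by
    rw [Units.val_neg, Units.val_one, neg_mulVec, one_mulVec, QuadraticMap.map_neg]⟩

theorem ng_mulVec (Q : QuadraticForm F (ι → F)) (v : ι → F) :
    (((ng Q : GL ι F)) : Matrix ι ι F) *ᵥ v = -v := by
  change ((-1 : GL ι F) : Matrix ι ι F) *ᵥ v = -v
  rw [Units.val_neg, Units.val_one, neg_mulVec, one_mulVec]

theorem ng_comm (Q : QuadraticForm F (ι → F)) (g : isometryGroup F (⇑Q)) : ng Q * g = g * ng Q := by
  apply isometryGroup_ext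
  intro x
  rw [coe_mul_mulVec, coe_mul_mulVec, ng_mulVec, ng_mulVec, mulVec_neg]

theorem ng_mul_ng (Q : QuadraticForm F (ι → F)) : ng Q * ng Q = 1 := by
  apply isometryGroup_ext
  intro x
  rw [coe_mul_mulVec, ng_mulVec, ng_mulVec, neg_neg]
  change x = ((1 : GL ι F) : Matrix ι ι F) *ᵥ x
  rw [Units.val_one, one_mulVec]

theorem det_ng (Q : QuadraticForm F (ι → F)) (hodd : Odd (Fintype.card ι)) :
    ((ng Q : GL ι F) : Matrix ι ι F).det = -1 := by
  change ((-1 : GL ι F) : Matrix ι ι F).det = -1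
  rw [Units.val_neg, Units.val_one, Matrix.det_neg, Matrix.det_one, mul_one, hodd.neg_one_pow]

theorem det_mul' (Q : QuadraticForm F (ι → F)) (g h : isometryGroup F (⇑Q)) :
    (((g * h : isometryGroup F (⇑Q)) : GL ι F) : Matrix ι ι F).det =
      ((g : GL ι F) : Matrix ι ι F).det * ((h : GL ι F) : Matrix ι ι F).det := by
  rw [← Matrix.det_mul]
  rfl

/-- the subgroup `Ω ∪ -Ω` -/
def omPM (Q : QuadraticForm F (ι → F)) : Subgroup (isometryGroup F (⇑Q)) where
  carrier := {g | g ∈ Cfsg.Omega F (⇑Q) ∨ ng Q * g ∈ Cfsg.Omega F (⇑Q)}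
  one_mem' := Or.inl (one_mem _)
  mul_mem' := by
    rintro g h (hg | hg) (hh | hh)
    · exact Or.inl (mul_mem hg hh)
    · right
      rw [← mul_assoc, ng_comm, mul_assoc]
      exact mul_mem hg hh
    · right
      rw [← mul_assoc]
      exact mul_mem hg hh
    · left
      have h1 := mul_mem hg hh
      rwa [ng_comm Q g, mul_assoc, ← mul_assoc (ng Q), ng_mul_ng, one_mul] at h1
  inv_mem' := by
    rintro g (hg | hg)
    · exact Or.inl (inv_mem hg)
    · right
      have h1 := inv_mem hg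
      have h2 : (ng Q)⁻¹ = ng Q := inv_eq_of_mul_eq_one_left (ng_mul_ng Q)
      rwa [_root_.mul_inv_rev, h2, ← ng_comm] at h1

theorem mem_omPM {Q : QuadraticForm F (ι → F)} {g : isometryGroup F (⇑Q)} :
    g ∈ omPM Q ↔ g ∈ Cfsg.Omega F (⇑Q) ∨ ng Q * g ∈ Cfsg.Omega F (⇑Q) := Iff.rfl

theorem omega_le (Q : QuadraticForm F (ι → F)) : Cfsg.Omega F (⇑Q) ≤ omPM Q := fun _ h => Or.inl h

theorem one_ne_neg_one (h2 : (2 : F) ≠ 0) : (-1 : F) ≠ 1 := by
  intro h
  apply h2
  have h3 : (1 : F) + 1 = 0 := by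
    nth_rw 1 [← h]
    ring
  rwa [one_add_one_eq_two] at h3

variable [Finite F]

theorem ng_notMem (h2 : (2 : F) ≠ 0) (Q : QuadraticForm F (ι → F)) (hQ : (polarBilin Q).Nondegenerate)
    (hodd : Odd (Fintype.card ι)) (hn : 2 ≤ Fintype.card ι) : ng Q ∉ Cfsg.Omega F (⇑Q) := by
  intro h
  have h1 := ((mem_Omega_iff h2 Q hQ hn one_ne_zero (ng Q)).1 h).1
  rw [det_ng Q hodd] at h1
  exact one_ne_neg_one h2 h1

/-- `Ω` has index two in `Ω ∪ -Ω` -/
theorem index_sub (h2 : (2 : F) ≠ 0) (Q : QuadraticForm F (ι → F)) (hQ : (polarBilin Q).Nondegenerate)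
    (hodd : Odd (Fintype.card ι)) (hn : 2 ≤ Fintype.card ι) :
    ((Cfsg.Omega F (⇑Q)).subgroupOf (omPM Q)).index = 2 := by
  have hng := ng_notMem h2 Q hQ hodd hn
  have hngK : ng Q ∈ omPM Q := Or.inr (by rw [ng_mul_ng]; exact one_mem _)
  rw [Subgroup.index_eq_two_iff]
  refine ⟨⟨ng Q, hngK⟩, ?_⟩
  rintro ⟨b, hb⟩
  rw [Subgroup.mem_subgroupOf, Subgroup.mem_subgroupOf]
  show Xor (b * ng Q ∈ Cfsg.Omega F (⇑Q)) (b ∈ Cfsg.Omega F (⇑Q))
  by_cases hb1 : b ∈ Cfsg.Omega F (⇑Q)
  · right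
    refine ⟨hb1, fun h => hng ?_⟩
    have h3 := mul_mem (inv_mem hb1) h
    rwa [inv_mul_cancel_left] at h3
  · left
    refine ⟨?_, hb1⟩
    rw [← ng_comm]
    exact hb.resolve_left hb1

theorem index_omPM (h2 : (2 : F) ≠ 0) (Q : QuadraticForm F (ι → F)) (hQ : (polarBilin Q).Nondegenerate)
    (hodd : Odd (Fintype.card ι)) (hn : 2 ≤ Fintype.card ι) : (omPM Q).index = 2 := by
  have h1 := Subgroup.relIndex_mul_index (omega_le Q)
  have h3 : (Cfsg.Omega F (⇑Q)).relIndex (omPM Q) = 2 := index_sub h2 Q hQ hodd hn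
  rw [h3, index_Omega h2 hn Q hQ] at h1
  omega

/-- **The class number of `Ω` in odd dimension.** -/
theorem four_card_eq (h2 : (2 : F) ≠ 0) (Q : QuadraticForm F (ι → F)) (hQ : (polarBilin Q).Nondegenerate)
    (hodd : Odd (Fintype.card ι)) (hn : 2 ≤ Fintype.card ι) :
    4 * Nat.card (ConjClasses (Cfsg.Omega F (⇑Q))) = Nat.card (ConjClasses (isometryGroup F (⇑Q))) +
      3 * Nat.card {c : ConjClasses (isometryGroup F (⇑Q)) //
        ∀ x, ConjClasses.mk x = c → Subgroup.centralizer {x} ≤ omPM Q} := by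
  classical
  have hfin : Finite (isometryGroup F (⇑Q)) := inferInstance
  have h1 := two_card_eq (omPM Q) (index_omPM h2 Q hQ hodd hn)
  have h3 := two_card_eq ((Cfsg.Omega F (⇑Q)).subgroupOf (omPM Q)) (index_sub h2 Q hQ hodd hn)
  have hng := ng_notMem h2 Q hQ hodd hn
  have hngK : ng Q ∈ omPM Q := Or.inr (by rw [ng_mul_ng]; exact one_mem _)
  have hempty : IsEmpty {c : ConjClasses (omPM Q) // ∀ x, ConjClasses.mk x = c →
      Subgroup.centralizer {x} ≤ (Cfsg.Omega F (⇑Q)).subgroupOf (omPM Q)} := by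
    constructor
    rintro ⟨c, hc⟩
    obtain ⟨x, rfl⟩ := ConjClasses.mk_surjective c
    have h4 := hc x rfl
    have h5 : (⟨ng Q, hngK⟩ : omPM Q) ∈ Subgroup.centralizer {x} := by
      rw [Subgroup.mem_centralizer_singleton_iff]
      apply Subtype.ext
      exact ng_comm Q x.1
    have h6 := h4 h5
    rw [Subgroup.mem_subgroupOf] at h6
    exact hng h6
  rw [@Nat.card_of_isEmpty _ hempty, mul_zero, add_zero] at h3
  have e : ((Cfsg.Omega F (⇑Q)).subgroupOf (omPM Q)) ≃* Cfsg.Omega F (⇑Q) :=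
    Subgroup.subgroupOfEquivOfLe (omega_le Q)
  have h7 : Nat.card (ConjClasses ((Cfsg.Omega F (⇑Q)).subgroupOf (omPM Q))) =
      Nat.card (ConjClasses (Cfsg.Omega F (⇑Q))) := by
    refine Nat.card_congr
      { toFun := ConjClasses.map e.toMonoidHom
        invFun := ConjClasses.map e.symm.toMonoidHom
        left_inv := ?_
        right_inv := ?_ }
    · intro c
      obtain ⟨x, rfl⟩ := ConjClasses.mk_surjective c
      show ConjClasses.mk (e.symm (e x)) = _
      rw [e.symm_apply_apply]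
    · intro c
      obtain ⟨x, rfl⟩ := ConjClasses.mk_surjective c
      show ConjClasses.mk (e (e.symm x)) = _
      rw [e.apply_symm_apply]
  rw [h7] at h3
  omega

/-- the elements commuting with a product of two reflections outside `Ω ∪ -Ω` -/
def Splits (Q : QuadraticForm F (ι → F)) (x : isometryGroup F (⇑Q)) : Prop :=
  ∃ v w : ι → F, Q v ≠ 0 ∧ Q w ≠ 0 ∧ ¬ IsSquare (Q v * Q w) ∧
    ((((x : GL ι F)) : Matrix ι ι F) *ᵥ v = v ∨ (((x : GL ι F)) : Matrix ι ι F) *ᵥ v = -v) ∧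
    ((((x : GL ι F)) : Matrix ι ι F) *ᵥ w = w ∨ (((x : GL ι F)) : Matrix ι ι F) *ᵥ w = -w)

omit [Finite F] in
theorem refl_comm {Q : QuadraticForm F (ι → F)} (x : isometryGroup F (⇑Q)) {v : ι → F} (hv : Q v ≠ 0)
    (h : (((x : GL ι F)) : Matrix ι ι F) *ᵥ v = v ∨ (((x : GL ι F)) : Matrix ι ι F) *ᵥ v = -v) :
    x * reflIso Q v hv = reflIso Q v hv * x := by
  have h1 : Q ((((x : GL ι F)) : Matrix ι ι F) *ᵥ v) ≠ 0 := by
    rw [(mem_isometryGroup_iff _ _).1 x.2]
    exact hv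
  have h3 := conj_reflIso Q v hv x h1
  have h4 : reflIso Q ((((x : GL ι F)) : Matrix ι ι F) *ᵥ v) h1 = reflIso Q v hv := by
    rcases h with h | h
    · exact reflIso_congr Q h1 hv h
    · have h5 : Q ((-1 : F) • v) ≠ 0 := by rwa [neg_one_smul, QuadraticMap.map_neg]
      rw [reflIso_congr Q h1 h5 (by rw [h, neg_one_smul]), reflIso_smul Q hv h5]
  rw [h4] at h3
  exact mul_inv_eq_iff_eq_mul.1 h3

theorem Splits.not_le {Q : QuadraticForm F (ι → F)} {x : isometryGroup F (⇑Q)} (hx : Splits Q x) (h2 : (2 : F) ≠ 0)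
    (hQ : (polarBilin Q).Nondegenerate) (hodd : Odd (Fintype.card ι)) (hn : 2 ≤ Fintype.card ι) :
    ¬ Subgroup.centralizer {x} ≤ omPM Q := by
  classical
  obtain ⟨v, w, hv, hw, hvw, hxv, hxw⟩ := hx
  intro hle
  have h1 : reflIso Q v hv * reflIso Q w hw ∈ Subgroup.centralizer {x} := by
    rw [Subgroup.mem_centralizer_singleton_iff, mul_assoc, ← refl_comm x hw hxw, ← mul_assoc, ← refl_comm x hv hxv,
      mul_assoc]
  have hdet : (((reflIso Q v hv * reflIso Q w hw : isometryGroup F (⇑Q)) : GL ι F) : Matrix ι ι F).det = 1 := by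
    rw [det_mul', det_reflIso, det_reflIso]
    ring
  rcases hle h1 with h3 | h3
  · have h4 := ((mem_Omega_iff h2 Q hQ hn one_ne_zero _).1 h3).2
    rw [map_mul, spinorSign_reflIso h2 Q one_ne_zero v hv, spinorSign_reflIso h2 Q one_ne_zero w hw, one_mul,
      one_mul] at h4
    by_cases hs : IsSquare (Q v)
    · by_cases hs' : IsSquare (Q w)
      · exact hvw (hs.mul hs')
      · rw [if_pos hs, if_neg hs', mul_one] at h4
        exact absurd h4 (by decide)
    · by_cases hs' : IsSquare (Q w)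
      · rw [if_neg hs, if_pos hs', one_mul] at h4
        exact absurd h4 (by decide)
      · exact hvw (Cfsg.Agent.ClassicalGeometry.Universal.isSquare_mul_of_not h2 hs hs')
  · have h4 := ((mem_Omega_iff h2 Q hQ hn one_ne_zero _).1 h3).1
    rw [det_mul', hdet, det_ng Q hodd, mul_one] at h4
    exact one_ne_neg_one h2 h4

/-- **Upper bound for the class number of `Ω` in odd dimension.** -/
theorem four_card_le (h2 : (2 : F) ≠ 0) (Q : QuadraticForm F (ι → F)) (hQ : (polarBilin Q).Nondegenerate)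
    (hodd : Odd (Fintype.card ι)) (hn : 2 ≤ Fintype.card ι) :
    4 * Nat.card (ConjClasses (Cfsg.Omega F (⇑Q))) ≤ Nat.card (ConjClasses (isometryGroup F (⇑Q))) +
      3 * Nat.card {c : ConjClasses (isometryGroup F (⇑Q)) // ∀ x, ConjClasses.mk x = c → ¬ Splits Q x} := by
  rw [four_card_eq h2 Q hQ hodd hn]
  apply Nat.add_le_add_left
  apply Nat.mul_le_mul_left
  have hfin : Finite (isometryGroup F (⇑Q)) := inferInstance
  refine Nat.card_le_card_of_injective
    (fun c => (⟨c.1, fun x hx hs => hs.not_le h2 hQ hodd hn (c.2 x hx)⟩ :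
      {c : ConjClasses (isometryGroup F (⇑Q)) // ∀ x, ConjClasses.mk x = c → ¬ Splits Q x})) ?_
  intro c d hcd
  exact Subtype.ext (congrArg (fun z => z.1) hcd)

open Cfsg.Agent.ClassicalGeometry.Universal in
/-- two orthogonal nonsingular vectors in the same eigenspace for `± 1` ⇒ split -/
theorem splits_of_pair (h2 : (2 : F) ≠ 0) {Q : QuadraticForm F (ι → F)} {x : isometryGroup F (⇑Q)} {v w : ι → F}
    (hv : Q v ≠ 0) (hw : Q w ≠ 0) (hvw : polar Q v w = 0) {e : F} (he : e = 1 ∨ e = -1)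
    (hxv : (((x : GL ι F)) : Matrix ι ι F) *ᵥ v = e • v) (hxw : (((x : GL ι F)) : Matrix ι ι F) *ᵥ w = e • w) :
    Splits Q x := by
  obtain ⟨a, ha⟩ := FiniteField.exists_nonsquare (ringChar_ne_two h2)
  obtain ⟨α, β, h⟩ := exists_sq_add_sq h2 hv hw (Q v * a)
  have ha0 : a ≠ 0 := by
    rintro rfl
    exact ha IsSquare.zero
  have hQ : Q (α • v + β • w) = Q v * a := by
    rw [QuadraticMap.map_add Q, QuadraticMap.map_smul, QuadraticMap.map_smul, QuadraticMap.polar_smul_left,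
      QuadraticMap.polar_smul_right, hvw, smul_zero, smul_zero, add_zero, ← h]
    simp only [smul_eq_mul]
    ring
  have key : ∀ u : ι → F, (((x : GL ι F)) : Matrix ι ι F) *ᵥ u = e • u →
      (((x : GL ι F)) : Matrix ι ι F) *ᵥ u = u ∨ (((x : GL ι F)) : Matrix ι ι F) *ᵥ u = -u := by
    intro u hu
    rcases he with rfl | rfl
    · left
      rw [hu, one_smul]
    · right
      rw [hu, neg_one_smul]
  refine ⟨v, α • v + β • w, hv, by rw [hQ]; exact mul_ne_zero hv ha0, ?_, key v hxv, key _ ?_⟩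
  · rw [hQ, ← mul_assoc]
    rintro ⟨r, hr⟩
    apply ha
    refine ⟨r / Q v, ?_⟩
    field_simp
    rw [pow_two, pow_two, ← hr]
    ring
  · rw [mulVec_add, mulVec_smul, mulVec_smul, hxv, hxw, smul_add, smul_comm α e, smul_comm β e]

end Cfsg.Agent.H171.OmegaSplit
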