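import Mathlib
import Cfsg.Agent.H171.PGL2

/-!
# Prime graphs of the almost simple groups with socle `PSL_2(q)` (part of S2529)
-/

set_option autoImplicit false

namespace Cfsg.Agent.H171.PGL2

open Cfsg Cfsg.Agent.H163.PG
open Cfsg.Agent.H966 Cfsg.Agent.H966.PSLAut
open Cfsg.Agent.ClassicalGeometry.AutPSL.Root
open Cfsg.Agent.ClassicalGeometry.AutPSL.Auto
open Cfsg.Agent.ClassicalGeometry.AutPSL.Main
open Matrix

universe u v

section

variable {F : Type u} [Field F] [Fintype F]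

local notation "LL" => Matrix.ProjectiveSpecialLinearGroup (Fin 2) F

/-! ### `q` odd, not a prime -/

theorem ppd_not_dvd_out {p f : ℕ} (hp : p.Prime) (hf : 1 ≤ f) (hF : Fintype.card F = p ^ f) (h4 : 4 ≤ Fintype.card F)
    (hZ : Subgroup.center LL = ⊥) {n r : ℕ} (hr : Ppd p n r) (hn : f ≤ n) (h2 : 2 ≤ n) : ¬ r ∣ Nat.card (Cfsg.Out LL) := by
  intro h
  rw [card_out_psl_two hp hf hF h4 hZ] at h
  rcases hr.prime.dvd_mul.1 h with h | h
  · exact hr.not_dvd_mul hn hf h
  · exact hr.ne_two h2 ((Nat.prime_dvd_prime_iff_eq hr.prime Nat.prime_two).1 (h.trans (Nat.gcd_dvd_left _ _)))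

omit [Field F] in
/-- `r` divides `q - 1` -/
theorem ppd_dvd_pred {p f : ℕ} (hp : p.Prime) (hF : Fintype.card F = p ^ f) {r : ℕ} (hr : Ppd p f r) :
    r ∣ Fintype.card F - 1 := by
  rw [hF, hr.dvd_iff hp.pos]

omit [Field F] in
/-- `r` divides `q + 1` -/
theorem ppd_dvd_succ {p f : ℕ} (hp : p.Prime) (hf : 1 ≤ f) (hF : Fintype.card F = p ^ f) {r : ℕ} (hr : Ppd p (2 * f) r) :
    r ∣ Fintype.card F + 1 := by
  have h1 : r ∣ p ^ (2 * f) - 1 := (hr.dvd_iff hp.pos _).2 dvd_rfl
  have h2 : p ^ (2 * f) - 1 = (Fintype.card F + 1) * (Fintype.card F - 1) := by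
    rw [hF, mul_comm 2 f, pow_mul]
    simpa using Nat.sq_sub_sq (p ^ f) 1
  rw [h2] at h1
  rcases hr.prime.dvd_mul.1 h1 with h | h
  · exact h
  · exfalso
    rw [hF, hr.dvd_iff hp.pos] at h
    have := Nat.le_of_dvd hf h
    omega

theorem goal_odd_ppd {p f : ℕ} (hp : p.Prime) (hp2 : p ≠ 2) (hf : 2 ≤ f) (hF : Fintype.card F = p ^ f)
    (h4 : 4 ≤ Fintype.card F) (hZ : Subgroup.center LL = ⊥) {r s : ℕ} (hr : Ppd p f r) (hs : Ppd p (2 * f) s) :
    GoalA LL := by
  intro A hA
  left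
  have hf1 : 1 ≤ f := by omega
  have h1 := ppd_dvd_pred hp hF hr
  have h2 := ppd_dvd_succ hp hf1 hF hs
  have hr' := dvd_half_of_odd (Nat.gcd_dvd_left 2 _) (Nat.gcd_dvd_right 2 (Fintype.card F - 1)) hr.prime (hr.ne_two hf) h1
  have hs' := dvd_half_of_odd (Nat.gcd_dvd_left 2 _) (gcd_dvd_succ h4) hs.prime (hs.ne_two (by omega)) h2
  have hrs : r ≠ s := hr.ne_of_ne hs (by omega)
  have hpr : p ≠ r := (hr.ne hf1).symm
  have hps : p ≠ s := (hs.ne (by omega)).symm
  have hrO := ppd_not_dvd_out hp hf1 hF h4 hZ hr le_rfl hf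
  have hsO := ppd_not_dvd_out hp hf1 hF h4 hZ hs (by omega) (by omega)
  have hpo : Odd p := hp.odd_of_ne_two hp2
  have hpc : ∀ {N t : ℕ}, Ppd p N t → (N = f ∨ N = 2 * f) → ∀ x ∈ A, orderOf x = p →
      x ∈ Inn LL ∨ ¬ t ∣ Nat.card ↥(inndiagPSL 2 F ⊓ Subgroup.centralizer {x}) := by
    intro N t ht hN x _ hx
    rcases types hp hx with h | ⟨σ, hσ, hc⟩
    · left
      exact inner_of_odd h (by rw [hx]; exact hpo)
    · right
      intro hd
      obtain ⟨hpf, h⟩ := psl_cent_field hp hf1 hF le_rfl (fun _ => h4) hp hx hσ hc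
      obtain ⟨k, hk1, hk2, hk⟩ := h ht (by omega) hd
      obtain rfl : k = 2 := by omega
      obtain ⟨g, rfl⟩ := hpf
      have hg : 0 < g := Nat.pos_of_ne_zero (by rintro rfl; omega)
      rw [Nat.mul_div_cancel_left _ hp.pos] at hk
      have h3 : p * g ∣ g * 2 := by
        rcases hN with rfl | rfl
        · exact hk
        · exact (Dvd.intro_left 2 rfl).trans hk
      rw [mul_comm p g] at h3
      have h5 := Nat.dvd_of_mul_dvd_mul_left hg h3
      exact hp2 ((Nat.prime_dvd_prime_iff_eq hp Nat.prime_two).1 h5)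
  refine ⟨p, r, s, hp, hr.prime, hs.prime, hpr, hrs, hps, dvd_card_A hZ hA (char_dvd hp hf1 hF),
    dvd_card_A hZ hA (dvd_card_of_half h4 (Or.inl hr')), dvd_card_A hZ hA (dvd_card_of_half h4 (Or.inr hs')), ?_, ?_, ?_⟩
  · exact not_adj hZ hp hr.prime hpr (inndiagPSL 2 F) inn_le_inndiag
      (fun y _ hy => inner_of_not_dvd hr.prime hrO hy) (hpc hr (Or.inl rfl)) (not_adj_char hp hf1 hF h4 hr.prime hpr)
  · exact not_adj' hZ hr.prime hs.prime hrs (fun y _ hy => inner_of_not_dvd hr.prime hrO hy)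
      (fun y _ hy => inner_of_not_dvd hs.prime hsO hy) (not_adj_tori h4 hr.prime hs.prime hr' hs')
  · exact not_adj hZ hp hs.prime hps (inndiagPSL 2 F) inn_le_inndiag
      (fun y _ hy => inner_of_not_dvd hs.prime hsO hy) (hpc hs (Or.inr rfl)) (not_adj_char hp hf1 hF h4 hs.prime hps)

theorem goal_odd_two_le.{b} {p f : ℕ} (hp : p.Prime) (hp2 : p ≠ 2) (hf : 2 ≤ f) (hF : Fintype.card F = p ^ f)
    (h4 : 4 ≤ Fintype.card F) (hZ : Subgroup.center LL = ⊥) : Goal.{u, b} LL := by
  have hf1 : 1 ≤ f := by omega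
  have := finite_psl (F := F) 2
  have hp3 : 3 ≤ p := by
    have := hp.two_le
    omega
  obtain ⟨s, hs⟩ := Ppd.exists (p := p) (n := 2 * f) hp.two_le (by omega) (by omega)
  by_cases h : f = 2 ∧ ∃ k, p + 1 = 2 ^ k
  · obtain ⟨rfl, k, hk⟩ := h
    by_cases hp3' : p = 3
    · -- `L_2(9)`
      subst hp3'
      have hO := card_out_psl_two hp hf1 hF h4 hZ
      apply goal_of_primes {2, 3, 5} (by decide)
      · intro r hr hd
        rcases prime_of_dvd_card hr hd with h | h | h
        · rw [hF] at h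
          rw [(Nat.prime_dvd_prime_iff_eq hr Nat.prime_three).1 (hr.dvd_of_dvd_pow h)]; decide
        · rw [hF] at h
          have h5 : r ∣ 2 ^ 3 := h
          rw [(Nat.prime_dvd_prime_iff_eq hr Nat.prime_two).1 (hr.dvd_of_dvd_pow h5)]; decide
        · rw [hF] at h
          have h5 : r ∣ 2 * 5 := h
          rcases hr.dvd_mul.1 h5 with h5 | h5
          · rw [(Nat.prime_dvd_prime_iff_eq hr Nat.prime_two).1 h5]; decide
          · rw [(Nat.prime_dvd_prime_iff_eq hr Nat.prime_five).1 h5]; decide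
      · intro r hr hd
        rw [hO, hF] at hd
        have h5 : r ∣ 2 ^ 2 := hd
        rw [(Nat.prime_dvd_prime_iff_eq hr Nat.prime_two).1 (hr.dvd_of_dvd_pow h5)]; decide
    · have hk3 : 3 ≤ k := by
        by_contra hcon
        have h1 : (2 : ℕ) ^ k ≤ 2 ^ 2 := Nat.pow_le_pow_right (by norm_num) (by omega)
        omega
      obtain ⟨j, rfl⟩ : ∃ j, k = j + 1 := ⟨k - 1, by omega⟩
      rw [pow_succ] at hk
      have hj : 2 ^ 2 ≤ 2 ^ j := Nat.pow_le_pow_right (by norm_num) (by omega)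
      obtain ⟨r, hr, hrd⟩ := Nat.exists_prime_and_dvd (show 2 ^ j - 1 ≠ 1 by omega)
      have hr2 : r ≠ 2 := by
        rintro rfl
        have h6 : 2 ∣ 2 ^ j := dvd_pow_self 2 (by omega)
        omega
      have hrp : r ∣ p - 1 := hrd.trans ⟨2, by omega⟩
      have hr1 : r ∣ Fintype.card F - 1 := by
        rw [hF]
        exact hrp.trans (Nat.sub_one_dvd_pow_sub_one p 2)
      apply goal_of_has3Out
      refine has3Out_of hp hf1 hF h4 hZ hr hs.prime hr2 (hs.ne_two (by norm_num)) hp2 hr1 (ppd_dvd_succ hp hf1 hF hs) ?_ ?_ ?_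
      · exact fun h => hp2 ((Nat.prime_dvd_prime_iff_eq hp Nat.prime_two).1 h)
      · exact fun h => hr2 ((Nat.prime_dvd_prime_iff_eq hr Nat.prime_two).1 h)
      · exact fun h => hs.ne_two (by norm_num) ((Nat.prime_dvd_prime_iff_eq hs.prime Nat.prime_two).1 h)
  · obtain ⟨r, hr⟩ : ∃ r, Ppd p f r := by
      by_cases hf2 : f = 2
      · subst hf2
        exact Ppd.exists_two hp.two_le (fun hk => h ⟨rfl, hk⟩)
      · exact Ppd.exists hp.two_le (by omega) (by omega)
    exact goal_of_goalA (goal_odd_ppd hp hp2 hf hF h4 hZ hr hs)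

/-! ### Tori of `PGL_2(q)` -/

omit [Fintype F] in
theorem dvd_orderOf {m : ℕ} {B : GL (Fin 2) F}
    (h : ∀ N : ℕ, (∃ r : F, scalar (Fin 2) r = ((B ^ N : GL (Fin 2) F) : Matrix (Fin 2) (Fin 2) F)) → m ∣ N) :
    m ∣ orderOf (lift (cj B) : MulAut LL) := by
  apply h
  have h1 : (lift (cj (B ^ orderOf (lift (cj B) : MulAut LL)) * fld 1) : MulAut LL) = lift (fld (1 : F ≃+* F)) := by
    rw [map_one fld, mul_one, map_pow, map_pow, pow_orderOf_eq_one, map_one]
  exact (injective_aux h1).1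

theorem exists_split : ∃ x : MulAut LL, Fintype.card F - 1 ∣ orderOf x := by
  obtain ⟨z, hz0, hz⟩ := Cfsg.Agent.H151.Spec.exists_gen_pow_ne (K := F)
  let B : GL (Fin 2) F := Matrix.GeneralLinearGroup.mkOfDetNeZero (Matrix.diagonal ![z, 1]) (by
    rw [Matrix.det_diagonal, Fin.prod_univ_two]
    simpa using hz0)
  refine ⟨lift (cj B), dvd_orderOf fun N hN => ?_⟩
  obtain ⟨r, hr⟩ := hN
  have h1 : ((B ^ N : GL (Fin 2) F) : Matrix (Fin 2) (Fin 2) F) = Matrix.diagonal ![z ^ N, 1] := by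
    rw [Units.val_pow_eq_pow_val]
    change (Matrix.diagonal ![z, 1]) ^ N = _
    rw [Matrix.diagonal_pow]
    congr 1
    ext i; fin_cases i <;> simp
  rw [h1] at hr
  have e0 := congrFun (congrFun hr 0) 0
  have e1 := congrFun (congrFun hr 1) 1
  simp at e0 e1
  rw [← hz, ← e0, e1]

theorem exists_nonsplit : ∃ x : MulAut LL, Fintype.card F + 1 ∣ orderOf x := by
  obtain ⟨p, f, hp, hf, hF⟩ := exists_pf F
  have := Fact.mk hp
  have := charP_of hp hF
  set q := Fintype.card F with hq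
  have hq2 : 2 ≤ q := Fintype.one_lt_card
  let K := FiniteField.Extension F p 2
  have hK : Nat.card K = q ^ 2 := by
    rw [FiniteField.natCard_extension, Nat.card_eq_fintype_card]
  have : Fintype K := Fintype.ofFinite K
  have hK' : Fintype.card K = q ^ 2 := by rw [← Nat.card_eq_fintype_card, hK]
  obtain ⟨z, hz0, hz⟩ := Cfsg.Agent.H151.Spec.exists_gen_pow_ne (K := K)
  have hsq : q ^ 2 - 1 = (q + 1) * (q - 1) := by
    have := Nat.sq_sub_sq q 1
    simpa using this
  let b := Module.finBasisOfFinrankEq F K (FiniteField.finrank_extension F p 2)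
  have hinj : Function.Injective (Algebra.leftMulMatrix b) := Algebra.leftMulMatrix_injective b
  let B : GL (Fin 2) F := Units.map (Algebra.leftMulMatrix b).toMonoidHom (Units.mk0 z hz0)
  refine ⟨lift (cj B), dvd_orderOf fun N hN => ?_⟩
  obtain ⟨r, hr⟩ := hN
  have h1 : ((B ^ N : GL (Fin 2) F) : Matrix (Fin 2) (Fin 2) F) = Algebra.leftMulMatrix b (z ^ N) := by
    rw [Units.val_pow_eq_pow_val, map_pow]
    rfl
  have h2 : z ^ N = algebraMap F K r := by
    apply hinj
    rw [← h1, ← hr, AlgHom.commutes]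
    rfl
  have h3 := (Cfsg.Agent.H151.Spec.exists_algebraMap_iff (z ^ N) (pow_ne_zero _ hz0)).1 ⟨r, h2⟩
  rw [← hq, ← pow_mul, hz, hK', hsq] at h3
  exact Nat.dvd_of_mul_dvd_mul_right (by omega : 0 < q - 1) h3

/-! ### `q = p` -/

theorem goal_prime {p : ℕ} (hp : p.Prime) (h5 : 5 ≤ p) (hF : Fintype.card F = p ^ 1)
    (hZ : Subgroup.center LL = ⊥) : Has3Out LL ∨ GoalA LL := by
  have hfin := finite_psl (F := F) 2
  have hF' : Fintype.card F = p := by rw [hF, pow_one]
  have h4 : 4 ≤ Fintype.card F := by omega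
  have hpo : Odd p := hp.odd_of_ne_two (by omega)
  have hp2 : p ≠ 2 := by omega
  obtain ⟨c, hc⟩ := hpo
  have hd : Nat.gcd 2 (Fintype.card F - 1) = 2 := Nat.gcd_eq_left ⟨c, by omega⟩
  by_cases hodd : (∃ r : ℕ, r.Prime ∧ r ≠ 2 ∧ r ∣ p - 1) ∧ (∃ r : ℕ, r.Prime ∧ r ≠ 2 ∧ r ∣ p + 1)
  · left
    obtain ⟨⟨r, hr, hr2, hr1⟩, s, hs, hs2, hs1⟩ := hodd
    exact has3Out_of hp le_rfl hF h4 hZ hr hs hr2 hs2 hp2 (by rwa [hF']) (by rwa [hF'])
      (fun h => hp.one_lt.ne' (Nat.dvd_one.1 h)) (fun h => hr.one_lt.ne' (Nat.dvd_one.1 h))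
      (fun h => hs.one_lt.ne' (Nat.dvd_one.1 h))
  right
  intro A hA
  by_cases h1 : (Inn LL).relIndex A = 1
  · left
    have hin : ∀ {t : ℕ}, t.Prime → ∀ y ∈ A, orderOf y = t → y ∈ Inn LL := fun {t} ht y hy hyt =>
      inner_of_not_dvd_relIndex ht (by rw [h1]; exact fun h => ht.one_lt.ne' (Nat.dvd_one.1 h)) hy hyt
    obtain ⟨r, hr, hr'⟩ := Nat.exists_prime_and_dvd (show (Fintype.card F - 1) / Nat.gcd 2 (Fintype.card F - 1) ≠ 1 by
      rw [hd, hF']; omega)
    obtain ⟨s, hs, hs'⟩ := Nat.exists_prime_and_dvd (show (Fintype.card F + 1) / Nat.gcd 2 (Fintype.card F - 1) ≠ 1 by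
      rw [hd, hF']; omega)
    have hrs : r ≠ s := by
      rintro rfl
      exact coprime_half h4 hr hr' hs'
    have hpr : p ≠ r := by
      rintro rfl
      have := hr'.trans (half_dvd_pred _)
      rw [hF] at this
      exact not_dvd_pred hp le_rfl this
    have hps : p ≠ s := by
      rintro rfl
      have := hs'.trans (half_dvd_succ h4)
      rw [hF] at this
      exact not_dvd_succ hp le_rfl this
    exact ⟨p, r, s, hp, hr, hs, hpr, hrs, hps, dvd_card_A hZ hA (char_dvd hp le_rfl hF),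
      dvd_card_A hZ hA (dvd_card_of_half h4 (Or.inl hr')), dvd_card_A hZ hA (dvd_card_of_half h4 (Or.inr hs')),
      not_adj' hZ hp hr hpr (hin hp) (hin hr) (not_adj_char hp le_rfl hF h4 hr hpr),
      not_adj' hZ hr hs hrs (hin hr) (hin hs) (not_adj_tori h4 hr hs hr' hs'),
      not_adj' hZ hp hs hps (hin hp) (hin hs) (not_adj_char hp le_rfl hF h4 hs hps)⟩
  · right
    -- `A` is the whole automorphism group
    have hO := card_out_psl_two hp le_rfl hF h4 hZ
    rw [hd, one_mul] at hO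
    have hidx : (Inn LL).index = 2 := hO
    have hmul := Subgroup.relIndex_mul_index hA
    rw [hidx] at hmul
    have hrel : (Inn LL).relIndex A = 2 :=
      ((Nat.dvd_prime Nat.prime_two).1 (Dvd.intro _ hmul)).resolve_left h1
    have hAtop : A = ⊤ := by
      rw [← Subgroup.index_eq_one]
      rw [hrel] at hmul
      omega
    subst hAtop
    -- all the primes different from `p` divide `m`
    obtain ⟨m, x, hm0, hx, hm⟩ : ∃ (m : ℕ) (x : MulAut LL), m ≠ 0 ∧ m ∣ orderOf x ∧
        ∀ t : ℕ, t.Prime → t ∣ p - 1 ∨ t ∣ p + 1 → t ∣ m := by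
      rw [not_and_or] at hodd
      rcases hodd with h | h
      · obtain ⟨x, hx⟩ := exists_nonsplit (F := F)
        rw [hF'] at hx
        refine ⟨p + 1, x, by omega, hx, fun t ht htt => ?_⟩
        rcases htt with h2 | h2
        · by_cases ht2 : t = 2
          · subst ht2
            exact ⟨c + 1, by omega⟩
          · exact absurd ⟨t, ht, ht2, h2⟩ h
        · exact h2
      · obtain ⟨x, hx⟩ := exists_split (F := F)
        rw [hF'] at hx
        refine ⟨p - 1, x, by omega, hx, fun t ht htt => ?_⟩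
        rcases htt with h2 | h2
        · exact h2
        · by_cases ht2 : t = 2
          · subst ht2
            exact ⟨c, by omega⟩
          · exact absurd ⟨t, ht, ht2, h2⟩ h
    have hprimes : ∀ t : ℕ, t.Prime → t ≠ p → t ∣ Nat.card (⊤ : Subgroup (MulAut LL)) → t ∣ m := by
      intro t ht htp htd
      apply hm t ht
      rw [card_A hZ hA, hrel] at htd
      rcases ht.dvd_mul.1 htd with h | h
      · left
        rw [(Nat.prime_dvd_prime_iff_eq ht Nat.prime_two).1 h]
        exact ⟨c, by omega⟩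
      · rcases prime_of_dvd_card ht h with h | h | h
        · rw [hF'] at h
          exact absurd ((Nat.prime_dvd_prime_iff_eq ht hp).1 h) htp
        · exact Or.inl (by rwa [hF'] at h)
        · exact Or.inr (by rwa [hF'] at h)
    refine ⟨fun t => t = p, fun r s hr hs hrs hrA hsA hX => ?_⟩
    have hrp : r ≠ p := fun h => hrs (h.trans (hX.1 h).symm)
    have hsp : s ≠ p := fun h => hrp (hX.2 h)
    have hdvd : r * s ∣ orderOf x := (Nat.Coprime.mul_dvd_of_dvd_of_dvd ((Nat.coprime_primes hr hs).2 hrs)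
      (hprimes r hr hrp hrA) (hprimes s hs hsp hsA)).trans hx
    have hx0 : orderOf x ≠ 0 := (orderOf_pos x).ne'
    refine adj_of_dvd (g := (⟨x, Subgroup.mem_top x⟩ : (⊤ : Subgroup (MulAut LL)))) ?_ ?_
    · rw [Subgroup.orderOf_mk]; exact hx0
    · rw [Subgroup.orderOf_mk]; exact hdvd

/-! ### `q` even -/

/-- two primes dividing `q - 1` (or `q + 1`) are adjacent, `q` even -/
theorem adj_even {f : ℕ} (hf : 2 ≤ f) (hF : Fintype.card F = 2 ^ f) {r s : ℕ} (hr : r.Prime) (hs : s.Prime)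
    (hrs : r ≠ s) (h : (r ∣ Fintype.card F - 1 ∧ s ∣ Fintype.card F - 1) ∨ (r ∣ Fintype.card F + 1 ∧ s ∣ Fintype.card F + 1)) :
    Adj LL r s := by
  have h4 : 4 ≤ Fintype.card F := by
    rw [hF]
    calc 4 = 2 ^ 2 := by norm_num
      _ ≤ 2 ^ f := Nat.pow_le_pow_right (by norm_num) hf
  have := Fact.mk Nat.prime_two
  have := charP_of Nat.prime_two hF
  have hd : Nat.gcd 2 (Fintype.card F - 1) = 1 := by
    rw [← Nat.coprime_iff_gcd_eq_one, Nat.Prime.coprime_iff_not_dvd Nat.prime_two, hF]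
    exact not_dvd_pred Nat.prime_two (by omega)
  rw [adj_iff 2 h4 hr hs hrs, hd, Nat.div_one, Nat.div_one]
  have hc := (Nat.coprime_primes hr hs).2 hrs
  rcases h with ⟨h1, h2⟩ | ⟨h1, h2⟩
  · exact Or.inl (hc.mul_dvd_of_dvd_of_dvd h1 h2)
  · exact Or.inr (hc.mul_dvd_of_dvd_of_dvd h1 h2)

/-- if `|A / Inn|` is even then `A` contains a field automorphism of order two -/
theorem exists_field_inv {f : ℕ} (_hf : 1 ≤ f) (hF : Fintype.card F = 2 ^ f) {A : Subgroup (MulAut LL)}
    (hA : Inn LL ≤ A) (h2 : 2 ∣ (Inn LL).relIndex A) :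
    ∃ σ : F ≃+* F, orderOf σ = 2 ∧ lift (fld σ) ∈ A := by
  have := Fact.mk Nat.prime_two
  have := charP_of Nat.prime_two hF
  have hfin := finite_psl (F := F) 2
  have hn : ((Inn LL).subgroupOf A).Normal := inferInstance
  have h3 : 2 ∣ Nat.card (A ⧸ (Inn LL).subgroupOf A) := h2
  obtain ⟨y, hy⟩ := exists_prime_orderOf_dvd_card' 2 h3
  obtain ⟨z, rfl⟩ := QuotientGroup.mk_surjective y
  obtain ⟨B, σ, hz⟩ := surj_two 2 (z : MulAut LL)
  have hB : lift (cj B) ∈ Inn LL := inndiag_le_inn (mem_inndiag.2 ⟨B, rfl⟩)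
  have hσA : lift (fld σ) ∈ A := by
    have h4 : lift (fld σ) = (lift (cj B))⁻¹ * (z : MulAut LL) := by
      rw [hz, map_mul, inv_mul_cancel_left]
    rw [h4]
    exact A.mul_mem (A.inv_mem (hA hB)) z.2
  refine ⟨σ, ?_, hσA⟩
  have hne : (z : MulAut LL) ∉ Inn LL := by
    intro h
    have : (QuotientGroup.mk z : A ⧸ (Inn LL).subgroupOf A) = 1 := (QuotientGroup.eq_one_iff z).2 h
    rw [this, orderOf_one] at hy
    exact absurd hy (by norm_num)
  have hsq : (z : MulAut LL) ^ 2 ∈ Inn LL := by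
    have h5 : (QuotientGroup.mk z : A ⧸ (Inn LL).subgroupOf A) ^ 2 = 1 := orderOf_dvd_iff_pow_eq_one.1 hy.dvd
    rw [← QuotientGroup.mk_pow, QuotientGroup.eq_one_iff] at h5
    exact h5
  rw [hz, ← map_pow, pow_eq] at hsq
  obtain ⟨C, hC⟩ := mem_inndiag.1 (inn_le_inndiag hsq)
  have h6 : lift (cj (C⁻¹ * nrm σ B 2) * fld (σ ^ 2)) = (lift (fld (1 : F ≃+* F)) : MulAut LL) := by
    rw [map_mul cj, map_inv, mul_assoc, map_mul lift, map_inv, ← hC, inv_mul_cancel, map_one, map_one]
  have h7 := (injective_aux h6).2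
  refine orderOf_eq_prime h7 ?_
  rintro rfl
  apply hne
  rw [hz, map_one, mul_one]
  exact hB

/-- the field involution centralizes elements of order `r` for all primes `r` dividing `q - 1` -/
theorem adj_two {f : ℕ} (hf : 1 ≤ f) (hF : Fintype.card F = 2 ^ f) (h4 : 4 ≤ Fintype.card F) {A : Subgroup (MulAut LL)}
    (hA : Inn LL ≤ A) (h2 : 2 ∣ (Inn LL).relIndex A) {r : ℕ} (hr : r.Prime) (hr1 : r ∣ Fintype.card F - 1) :
    Adj A 2 r := by
  have := Fact.mk Nat.prime_two
  have := charP_of Nat.prime_two hF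
  have hfin := finite_psl (F := F) 2
  obtain ⟨σ, hσ, hσA⟩ := exists_field_inv hf hF hA h2
  have hσ1 : σ ≠ RingEquiv.refl F := by
    rintro rfl
    have : orderOf (1 : F ≃+* F) = 2 := hσ
    rw [orderOf_one] at this
    exact absurd this (by norm_num)
  have hx : orderOf (lift (fld σ) : MulAut LL) = 2 := by
    refine orderOf_eq_prime ?_ ?_
    · rw [← map_pow, ← map_pow, ← hσ, pow_orderOf_eq_one, map_one, map_one]
    · intro h
      have h1 : lift (cj 1 * fld σ) = (lift (fld (1 : F ≃+* F)) : MulAut LL) := by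
        rw [map_one, one_mul, h, map_one, map_one]
      exact hσ1 (injective_aux h1).2
  have hcl : IsFieldAutClassPSL (lift (fld σ) : MulAut LL) := ⟨1, σ, hσ1, by rw [std_iff]; group⟩
  have hf2 : 2 ∣ f := by
    rw [← hσ, ← Lib.FieldAutCard.card_ringAut (p := 2) hf hF]
    exact orderOf_dvd_natCard σ
  have hfs : f / 2 ≠ 0 := by
    have := Nat.div_pos (Nat.le_of_dvd hf hf2) Nat.prime_two.pos
    omega
  have hfinG : Fintype (GaloisField 2 (f / 2)) := Fintype.ofFinite _
  have hcard : Fintype.card (GaloisField 2 (f / 2)) = 2 ^ (f / 2) := by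
    rw [← Nat.card_eq_fintype_card]
    exact GaloisField.card 2 (f / 2) hfs
  obtain ⟨-, ⟨e⟩, -⟩ := S2698.result (F := F) hF hf le_rfl (fun _ => h4) _ hcl Nat.prime_two hx (GaloisField 2 (f / 2)) hcard
  have hr2 : r ≠ 2 := by
    rintro rfl
    rw [hF] at hr1
    exact not_dvd_pred Nat.prime_two hf hr1
  -- `r` divides `|PGL_2(q₀)|`
  have hd : r ∣ Nat.card ↥(inndiagPSL 2 F ⊓ Subgroup.centralizer {(lift (fld σ) : MulAut LL)}) := by
    rw [Nat.card_congr e.toEquiv, card_pgl le_rfl, card_psl le_rfl, hcard]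
    refine Dvd.dvd.mul_left ?_ _
    rw [Finset.prod_range_one, zero_add, ← pow_mul, Nat.div_mul_cancel hf2, ← hF]
    exact hr1
  have := Fact.mk hr
  obtain ⟨y, hy⟩ := exists_prime_orderOf_dvd_card' r hd
  have hy1 := (Subgroup.mem_inf.1 y.2).1
  have hy2 := (Subgroup.mem_inf.1 y.2).2
  have hyA : (y : MulAut LL) ∈ A := hA (inndiag_le_inn hy1)
  refine adj_of_commute Nat.prime_two hr hr2.symm (x := (⟨lift (fld σ), hσA⟩ : A)) (y := ⟨y, hyA⟩) ?_ ?_ ?_
  · rw [Subgroup.orderOf_mk, hx]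
  · rw [Subgroup.orderOf_mk, Subgroup.orderOf_coe, hy]
  · apply Subtype.ext
    exact (Subgroup.mem_centralizer_singleton_iff.1 hy2).symm

theorem goal_even {f : ℕ} (hf : 4 ≤ f) (hF : Fintype.card F = 2 ^ f) (hZ : Subgroup.center LL = ⊥) : GoalA LL := by
  have hf1 : 1 ≤ f := by omega
  have hp2 := Nat.prime_two
  have := Fact.mk Nat.prime_two
  have := charP_of Nat.prime_two hF
  have hfin := finite_psl (F := F) 2
  have h4 : 4 ≤ Fintype.card F := by
    rw [hF]
    calc 4 = 2 ^ 2 := by norm_num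
      _ ≤ 2 ^ f := Nat.pow_le_pow_right (by norm_num) (by omega)
  have hd : Nat.gcd 2 (Fintype.card F - 1) = 1 := by
    rw [← Nat.coprime_iff_gcd_eq_one, Nat.Prime.coprime_iff_not_dvd Nat.prime_two, hF]
    exact not_dvd_pred Nat.prime_two (by omega)
  have hO := card_out_psl_two hp2 hf1 hF h4 hZ
  rw [hd, mul_one] at hO
  intro A hA
  have hrelO : (Inn LL).relIndex A ∣ f := by
    rw [← hO]
    exact Subgroup.relIndex_dvd_index_of_le hA
  obtain ⟨s, hs⟩ := Ppd.exists (p := 2) (n := 2 * f) (by norm_num) (by omega) (by omega)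
  have hs1 := ppd_dvd_succ hp2 hf1 hF hs
  have hs' : s ∣ (Fintype.card F + 1) / Nat.gcd 2 (Fintype.card F - 1) := by rwa [hd, Nat.div_one]
  have hsO : ¬ s ∣ Nat.card (Cfsg.Out LL) := by
    rw [hO]
    exact hs.not_dvd_mul (by omega) hf1
  have h2s : 2 ≠ s := (hs.ne_two (by omega)).symm
  -- a prime `r` dividing `q - 1`, not dividing `f`
  obtain ⟨r, hr, hr1, hrf, h6⟩ : ∃ r : ℕ, r.Prime ∧ r ∣ Fintype.card F - 1 ∧ ¬ r ∣ f ∧ (f ≠ 6 → Ppd 2 f r) := by
    by_cases hf6 : f = 6
    · subst hf6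
      exact ⟨7, by norm_num, by rw [hF]; norm_num, by norm_num, fun h => absurd rfl h⟩
    · obtain ⟨r, hr⟩ := Ppd.exists (p := 2) (n := f) (by norm_num) (by omega) (by omega)
      exact ⟨r, hr.prime, ppd_dvd_pred hp2 hF hr, hr.not_dvd_mul le_rfl hf1, fun _ => hr⟩
  have hr' : r ∣ (Fintype.card F - 1) / Nat.gcd 2 (Fintype.card F - 1) := by rwa [hd, Nat.div_one]
  have hrO : ¬ r ∣ Nat.card (Cfsg.Out LL) := by rwa [hO]
  have h2r : 2 ≠ r := by
    rintro rfl
    rw [hF] at hr1
    exact not_dvd_pred hp2 hf1 hr1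
  have hrs : r ≠ s := by
    rintro rfl
    exact coprime_half h4 hr hr' hs'
  have hrS := dvd_card_of_half (F := F) h4 (Or.inl hr')
  have hsS := dvd_card_of_half (F := F) h4 (Or.inr hs')
  have h2S : 2 ∣ Nat.card LL := char_dvd hp2 hf1 hF
  have hnrs : ¬ Adj A r s := not_adj' hZ hr hs.prime hrs (fun y _ hy => inner_of_not_dvd hr hrO hy)
    (fun y _ hy => inner_of_not_dvd hs.prime hsO hy) (not_adj_tori h4 hr hs.prime hr' hs')
  by_cases hev : 2 ∣ (Inn LL).relIndex A
  swap
  · left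
    exact ⟨2, r, s, hp2, hr, hs.prime, h2r, hrs, h2s, dvd_card_A hZ hA h2S, dvd_card_A hZ hA hrS, dvd_card_A hZ hA hsS,
      not_adj' hZ hp2 hr h2r (fun y hyA hy => inner_of_not_dvd_relIndex hp2 hev hyA hy)
        (fun y _ hy => inner_of_not_dvd hr hrO hy) (not_adj_char hp2 hf1 hF h4 hr h2r), hnrs,
      not_adj' hZ hp2 hs.prime h2s (fun y hyA hy => inner_of_not_dvd_relIndex hp2 hev hyA hy)
        (fun y _ hy => inner_of_not_dvd hs.prime hsO hy) (not_adj_char hp2 hf1 hF h4 hs.prime h2s)⟩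
  by_cases hex : ∃ t : ℕ, t.Prime ∧ t ∣ (Inn LL).relIndex A ∧ ¬ t ∣ Nat.card LL
  · left
    obtain ⟨t, ht, htr, htS⟩ := hex
    have htf : t ∣ f := htr.trans hrelO
    have hto : Odd t := ht.odd_of_ne_two (by rintro rfl; exact htS h2S)
    have hf6 : f ≠ 6 := by
      rintro rfl
      have h7 : t ∣ 2 * 3 := htf
      have h3S : 3 ∣ Nat.card LL := by
        apply dvd_card_of_half h4
        left
        rw [hd, Nat.div_one, hF]
        norm_num
      rcases ht.dvd_mul.1 h7 with h | h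
      · exact htS ((Nat.prime_dvd_prime_iff_eq ht Nat.prime_two).1 h ▸ h2S)
      · exact htS ((Nat.prime_dvd_prime_iff_eq ht Nat.prime_three).1 h ▸ h3S)
    have hr6 := h6 hf6
    have htrne : t ≠ r := by rintro rfl; exact htS hrS
    have htsne : t ≠ s := by rintro rfl; exact htS hsS
    have htA : t ∣ Nat.card A := by
      rw [card_A hZ hA]
      exact htr.mul_right _
    have htc : ∀ {N u : ℕ}, Ppd 2 N u → (N = f ∨ N = 2 * f) → ∀ x ∈ A, orderOf x = t →
        x ∈ Inn LL ∨ ¬ u ∣ Nat.card ↥(inndiagPSL 2 F ⊓ Subgroup.centralizer {x}) := by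
      intro N u hu hN x _ hx
      rcases types ht hx with h | ⟨σ, hσ, hc⟩
      · exact Or.inl (inndiag_le_inn h)
      · right
        intro hdd
        obtain ⟨htf', h⟩ := psl_cent_field hp2 hf1 hF le_rfl (fun _ => h4) ht hx hσ hc
        obtain ⟨k, hk1, hk2, hk⟩ := h hu (by omega) hdd
        obtain rfl : k = 2 := by omega
        obtain ⟨g, hg⟩ := htf'
        have hg0 : 0 < g := Nat.pos_of_ne_zero (by rintro rfl; omega)
        rw [hg, Nat.mul_div_cancel_left _ ht.pos] at hk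
        have h3 : t * g ∣ g * 2 := by
          rcases hN with h8 | h8
          · rw [h8, hg] at hk
            exact hk
          · rw [h8, hg] at hk
            exact (Dvd.intro_left 2 rfl).trans hk
        rw [mul_comm t g] at h3
        have h5 := Nat.dvd_of_mul_dvd_mul_left hg0 h3
        have h9 := (Nat.prime_dvd_prime_iff_eq ht Nat.prime_two).1 h5
        rw [h9] at hto
        exact absurd hto (by decide)
    have htS' : ∀ u : ℕ, ¬ Adj LL t u := by
      rintro u ⟨g, hg⟩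
      apply htS
      exact (Dvd.intro u rfl).trans (hg ▸ orderOf_dvd_natCard g)
    exact ⟨t, r, s, ht, hr, hs.prime, htrne, hrs, htsne, htA, dvd_card_A hZ hA hrS, dvd_card_A hZ hA hsS,
      not_adj hZ ht hr htrne (inndiagPSL 2 F) inn_le_inndiag (fun y _ hy => inner_of_not_dvd hr hrO hy)
        (htc hr6 (Or.inl rfl)) (htS' r), hnrs,
      not_adj hZ ht hs.prime htsne (inndiagPSL 2 F) inn_le_inndiag (fun y _ hy => inner_of_not_dvd hs.prime hsO hy)
        (htc hs (Or.inr rfl)) (htS' s)⟩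
  · right
    push Not at hex
    have hprimes : ∀ t : ℕ, t.Prime → t ∣ Nat.card A → t = 2 ∨ t ∣ Fintype.card F - 1 ∨ t ∣ Fintype.card F + 1 := by
      intro t ht htA
      have htS : t ∣ Nat.card LL := by
        rw [card_A hZ hA] at htA
        rcases ht.dvd_mul.1 htA with h | h
        · exact hex t ht h
        · exact h
      rcases prime_of_dvd_card ht htS with h | h | h
      · rw [hF] at h
        exact Or.inl ((Nat.prime_dvd_prime_iff_eq ht hp2).1 (ht.dvd_of_dvd_pow h))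
      · exact Or.inr (Or.inl h)
      · exact Or.inr (Or.inr h)
    have h2n : ¬ 2 ∣ Fintype.card F + 1 := by
      rw [hF]
      exact not_dvd_succ hp2 hf1
    have key : ∀ a b : ℕ, a.Prime → b.Prime → a ≠ b → a ∣ Nat.card A → b ∣ Nat.card A → ¬ a ∣ Fintype.card F + 1 →
        ¬ b ∣ Fintype.card F + 1 → Adj A a b := by
      intro a b ha hb hab haA hbA h1 h2
      rcases hprimes a ha haA with rfl | h3 | h3
      · rcases hprimes b hb hbA with rfl | h5 | h5
        · exact absurd rfl hab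
        · exact adj_two hf1 hF h4 hA hev hb h5
        · exact absurd h5 h2
      · rcases hprimes b hb hbA with rfl | h5 | h5
        · exact (adj_two hf1 hF h4 hA hev ha h3).symm
        · exact adj_A hZ hA (adj_even (by omega) hF ha hb hab (Or.inl ⟨h3, h5⟩))
        · exact absurd h5 h2
      · exact absurd h3 h1
    refine ⟨fun t => t ∣ Fintype.card F + 1, fun a b ha hb hab haA hbA hX => ?_⟩
    by_cases h1 : a ∣ Fintype.card F + 1
    · exact adj_A hZ hA (adj_even (by omega) hF ha hb hab (Or.inr ⟨h1, hX.1 h1⟩))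
    · exact key a b ha hb hab haA hbA h1 (fun h => h1 (hX.2 h))

/-- **The groups `PSL_2(q)`, `q ≥ 4`.** -/
theorem goal_psl_two.{b} (h4 : 4 ≤ Fintype.card F) (hZ : Subgroup.center LL = ⊥) : Goal.{u, b} LL := by
  obtain ⟨p, f, hp, hf, hF⟩ := exists_pf F
  have hfin := finite_psl (F := F) 2
  by_cases hp2 : p = 2
  · subst hp2
    rcases Nat.lt_or_ge f 4 with hf4 | hf4
    · have hf2 : 2 ≤ f := by
        by_contra hcon
        have : f = 1 := by omega
        rw [hF, this] at h4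
        norm_num at h4
      have hO := card_out_psl_two hp hf hF h4 hZ
      have hd : Nat.gcd 2 (Fintype.card F - 1) = 1 := by
        rw [← Nat.coprime_iff_gcd_eq_one, Nat.Prime.coprime_iff_not_dvd Nat.prime_two, hF]
        exact not_dvd_pred Nat.prime_two (by omega)
      rw [hd, mul_one] at hO
      have h35 : f = 2 ∨ f = 3 := by omega
      have key : ∀ r : ℕ, r.Prime → r ∣ 2 ^ 4 * (3 * (5 * 7)) → r ∈ ({2, 3, 5, 7} : Finset ℕ) := by
        intro r hr h
        rcases hr.dvd_mul.1 h with h | h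
        · rw [(Nat.prime_dvd_prime_iff_eq hr Nat.prime_two).1 (hr.dvd_of_dvd_pow h)]; decide
        · rcases hr.dvd_mul.1 h with h | h
          · rw [(Nat.prime_dvd_prime_iff_eq hr Nat.prime_three).1 h]; decide
          · rcases hr.dvd_mul.1 h with h | h
            · rw [(Nat.prime_dvd_prime_iff_eq hr Nat.prime_five).1 h]; decide
            · rw [(Nat.prime_dvd_prime_iff_eq hr (by norm_num)).1 h]; decide
      apply goal_of_primes {2, 3, 5, 7} (by decide)
      · intro r hr hdv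
        rcases h35 with rfl | rfl
        · rcases prime_of_dvd_card hr hdv with h | h | h <;> rw [hF] at h
          · exact key r hr (h.trans (by norm_num))
          · exact key r hr (h.trans (by norm_num))
          · exact key r hr (h.trans (by norm_num))
        · rcases prime_of_dvd_card hr hdv with h | h | h <;> rw [hF] at h
          · exact key r hr (h.trans (by norm_num))
          · exact key r hr (h.trans (by norm_num))
          · have h7 : r ∣ 3 ^ 2 := h
            rw [(Nat.prime_dvd_prime_iff_eq hr Nat.prime_three).1 (hr.dvd_of_dvd_pow h7)]; decide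
      · intro r hr hdv
        rw [hO] at hdv
        rcases h35 with rfl | rfl
        · exact key r hr (hdv.trans (by norm_num))
        · exact key r hr (hdv.trans (by norm_num))
    · exact goal_of_goalA (goal_even hf4 hF hZ)
  · rcases Nat.lt_or_ge f 2 with hf2 | hf2
    · obtain rfl : f = 1 := by omega
      have h5 : 5 ≤ p := by
        rw [hF, pow_one] at h4
        rcases Nat.lt_or_ge p 5 with h | h
        · obtain rfl : p = 4 := by omega
          exact absurd hp (by norm_num)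
        · exact h
      rcases goal_prime hp h5 hF hZ with h | h
      · exact goal_of_has3Out h
      · exact goal_of_goalA h
    · exact goal_odd_two_le hp hp2 hf2 hF h4 hZ

end

end Cfsg.Agent.H171.PGL2
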