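import Mathlib
import Cfsg.Agent.H163.PG.PspN
import Cfsg.Agent.H254.CopLin
import Cfsg.Agent.H999.PslGraphSplit
import Cfsg.Agent.H966.PSpAut
import Cfsg.Agent.H202.PspSplit
import Cfsg.Agent.H150.TwoP
import Cfsg.Agent.S2472
import Cfsg.Agent.S2712
import Cfsg.Agent.S0270
import Cfsg.Agent.H171.PGL2Goal

/-!
# Prime graphs of the almost simple groups with socle `PSp_4(q)` (part of S2529)

* `of_dvd_pgsp` : primes dividing the order of `PGSp_2m(q)`;
* `field_of_cop` : automorphisms of prime order not dividing the order of `PSp_4(q)` are field automorphisms;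
* `goal_psp_two` : the row `PSp_4(q)`, `q ≥ 3`.
-/

set_option autoImplicit false

namespace Cfsg.Agent.H171.PGS4

open Cfsg Cfsg.Agent.H163.PG
open Matrix

universe u v

section

variable {F : Type u} [Field F] [Fintype F]

/-- primes dividing `|PGSp_2m(q)|` -/
theorem of_dvd_pgsp {m : ℕ} (hm : 1 ≤ m) {r : ℕ} (hr : r.Prime) (h : r ∣ Nat.card (PGSp m F)) :
    r ∣ Fintype.card F ∨ ∃ k, 1 ≤ k ∧ k ≤ m ∧ r ∣ Fintype.card F ^ (2 * k) - 1 := by
  have hne : Nonempty (Fin m ⊕ Fin m) := ⟨Sum.inl ⟨0, by omega⟩⟩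
  have hJ : (J (Fin m) F) ≠ 0 := by
    intro h
    have := (isUnit_det_J (Fin m) F).ne_zero
    rw [h, det_zero] at this
    exact this rfl
  obtain ⟨d, hd, h3⟩ := Cfsg.Agent.H999.PslGraphSplit.card_proj hJ
  rw [Nat.card_congr (Cfsg.Agent.H999.PslGraphTwo.isoJ (m := m) (F := F)).toEquiv, Cfsg.Agent.S0245.result rfl m] at h3
  rw [Cfsg.Agent.H999.PslGraphSplit.card_units_eq] at hd h3
  have h4 : r ∣ Fintype.card F ^ m ^ 2 * (∏ i ∈ Finset.range m, (Fintype.card F ^ (2 * (i + 1)) - 1)) * d := by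
    rw [← h3]
    exact Dvd.dvd.mul_right h _
  rcases hr.dvd_mul.1 h4 with h5 | h5
  · exact of_dvd_prod' hr h5
  · refine Or.inr ⟨1, le_rfl, hm, ?_⟩
    exact (h5.trans hd).trans (Nat.sub_one_dvd_pow_sub_one _ _)

/-- the ring of orders of `q` modulo a prime divisor of `q ^ 2 - 1` -/
theorem eta_one {q r : ℕ} (hq : 1 ≤ q) (h : r ∣ q ^ 2 - 1) :
    Eta (orderOf (q : ZMod r)) 1 := by
  rw [Cfsg.Agent.Lib.Zsigmondy.dvd_pow_sub_one_iff hq] at h
  rcases (Nat.dvd_prime Nat.prime_two).1 h with h1 | h1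
  · rw [h1]; exact Or.inl ⟨odd_one, rfl⟩
  · rw [h1]; exact Or.inr ⟨even_two, rfl⟩

/-- `r ∣ q ^ 2 + 1`, `r` odd -/
theorem ord_four {q r : ℕ} (hq : 1 ≤ q) (hr : r.Prime) (hr2 : r ≠ 2) (h : r ∣ q ^ 2 + 1) :
    orderOf (q : ZMod r) = 4 := by
  have h1 : r ∣ q ^ 4 - 1 := by
    have h2 : q ^ 4 - 1 = (q ^ 2 + 1) * (q ^ 2 - 1) := by
      have := Nat.sq_sub_sq (q ^ 2) 1
      simpa [← pow_mul] using this
    rw [h2]
    exact h.mul_right _
  have h2 : ¬ r ∣ q ^ 2 - 1 := by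
    intro h3
    have h4 : r ∣ (q ^ 2 + 1) - (q ^ 2 - 1) := Nat.dvd_sub h h3
    have h5 : 1 ≤ q ^ 2 := Nat.one_le_pow _ _ hq
    rw [show (q ^ 2 + 1) - (q ^ 2 - 1) = 2 by omega] at h4
    exact hr2 ((Nat.prime_dvd_prime_iff_eq hr Nat.prime_two).1 h4)
  rw [Cfsg.Agent.Lib.Zsigmondy.dvd_pow_sub_one_iff hq] at h1 h2
  have h3 : orderOf (q : ZMod r) ∣ 2 ^ 2 := h1
  obtain ⟨k, hk, hk'⟩ := (Nat.dvd_prime_pow Nat.prime_two).1 h3
  interval_cases k
  · rw [hk'] at h2; exact absurd (by norm_num) h2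
  · rw [hk'] at h2; exact absurd (by norm_num) h2
  · exact hk'

/-- prime divisors of `|PSp_4(q)|` -/
theorem primes {r : ℕ} (hr : r.Prime) (h : r ∣ Nat.card (PSp 2 F)) :
    r ∣ Fintype.card F ∨ r ∣ Fintype.card F ^ 2 - 1 ∨ r ∣ Fintype.card F ^ 2 + 1 := by
  rcases of_dvd_psp (by norm_num) hr h with h | ⟨k, h1, h2, h3⟩
  · exact Or.inl h
  · right
    have hk : k = 1 ∨ k = 2 := by omega
    rcases hk with rfl | rfl
    · exact Or.inl h3
    · have h2 : Fintype.card F ^ 4 - 1 = (Fintype.card F ^ 2 + 1) * (Fintype.card F ^ 2 - 1) := by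
        have := Nat.sq_sub_sq (Fintype.card F ^ 2) 1
        simpa [← pow_mul] using this
      rw [show 2 * 2 = 4 from rfl, h2] at h3
      rcases hr.dvd_mul.1 h3 with h | h
      · exact Or.inr h
      · exact Or.inl h

/-- `2` divides the order -/
theorem two_dvd : 2 ∣ Nat.card (PSp 2 F) := by
  obtain ⟨p, f, hp, hf, hF⟩ := exists_pf F
  by_cases hp2 : p = 2
  · subst hp2
    exact char_dvd_psp hp hf hF (by norm_num)
  · have h := card_psp (F := F) (n := 2) (by norm_num)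
    have hodd : Odd (Fintype.card F) := by rw [hF]; exact (hp.odd_of_ne_two hp2).pow
    obtain ⟨c, hc⟩ := hodd
    have hg : Nat.gcd 2 (Fintype.card F - 1) = 2 := Nat.gcd_eq_left ⟨c, by omega⟩
    rw [hg, Finset.prod_range_succ, Finset.prod_range_one] at h
    have h1 : 2 ∣ Fintype.card F ^ (2 * (0 + 1)) - 1 := by
      rw [hc]
      refine ⟨2 * c * c + 2 * c, ?_⟩
      have : (2 * c + 1) ^ (2 * (0 + 1)) = 2 * (2 * c * c + 2 * c) + 1 := by ring
      omega
    have h2 : 2 ∣ Fintype.card F ^ (2 * (1 + 1)) - 1 := by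
      have h3 : Fintype.card F ^ (2 * (1 + 1)) - 1 = (Fintype.card F ^ 2 + 1) * (Fintype.card F ^ 2 - 1) := by
        have := Nat.sq_sub_sq (Fintype.card F ^ 2) 1
        simpa [← pow_mul] using this
      rw [h3]
      exact Dvd.dvd.mul_left h1 _
    obtain ⟨a, ha⟩ := h1
    obtain ⟨b, hb⟩ := h2
    rw [ha, hb] at h
    refine ⟨Fintype.card F ^ 2 ^ 2 * a * b, ?_⟩
    have : 2 * Nat.card (PSp 2 F) = 2 * (2 * (Fintype.card F ^ 2 ^ 2 * a * b)) := by
      rw [h]; ring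
    omega

/-- `3` divides the order -/
theorem three_dvd : 3 ∣ Nat.card (PSp 2 F) := by
  obtain ⟨p, f, hp, hf, hF⟩ := exists_pf F
  by_cases hp3 : p = 3
  · subst hp3
    exact char_dvd_psp hp hf hF (by norm_num)
  · apply dvd_psp (k := 1) (by norm_num) Nat.prime_three (by norm_num) le_rfl (by norm_num)
    have h1 : ¬ 3 ∣ Fintype.card F := by
      rw [hF]
      intro h
      exact hp3 ((Nat.prime_dvd_prime_iff_eq Nat.prime_three hp).1 (Nat.prime_three.dvd_of_dvd_pow h)).symm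
    set q := Fintype.card F
    have h2 : q % 3 = 1 ∨ q % 3 = 2 := by omega
    have h3 : (q ^ (2 * 1)) % 3 = 1 := by
      rw [Nat.pow_mod]
      rcases h2 with h2 | h2 <;> rw [h2] 
    omega

theorem hna_of (hZ : Subgroup.center (PSp 2 F) = ⊥) : ¬ IsMulCommutative (PSp 2 F) := by
  intro h
  have h1 : Nat.card (PSp 2 F) = 1 := by
    rw [Nat.card_eq_one_iff_unique]
    refine ⟨⟨fun a b => ?_⟩, ⟨1⟩⟩
    have h2 : ∀ c : PSp 2 F, c = 1 := fun c => by
      have : c ∈ Subgroup.center (PSp 2 F) := Subgroup.mem_center_iff.2 fun g => h.is_comm.comm _ _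
      rw [hZ] at this
      exact this
    rw [h2 a, h2 b]
  have h2 := two_dvd (F := F)
  rw [h1] at h2
  exact absurd h2 (by norm_num)

/-- **Coprime automorphisms of prime order are field automorphisms.** -/
theorem field_of_cop (h3 : 3 ≤ Fintype.card F) (hZ : Subgroup.center (PSp 2 F) = ⊥) {t : ℕ} (ht : t.Prime)
    (htS : ¬ t ∣ Nat.card (PSp 2 F)) {x : MulAut (PSp 2 F)} (hx : orderOf x = t) : IsFieldAutClassPSp x := by
  have hsimp : IsSimpleGroup (PSp 2 F) := S0270.result 2 le_rfl (fun _ => h3)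
  have : Finite (Matrix.symplecticGroup (Fin 2) F) := Subtype.finite
  have : Finite (Cfsg.PSp 2 F) := inferInstance
  obtain ⟨ρ, hρ, -⟩ := H254.exists_ringAut F
  have hc := H254.PSP.copIn (F := F) le_rfl (fun _ => h3) (hna_of hZ) two_dvd ρ hρ
  obtain ⟨g, hg⟩ := hc (Subgroup.zpowers x)
    (by rw [Nat.card_zpowers, hx]; exact (Nat.Prime.coprime_iff_not_dvd ht).2 htS)
  have h1 : g * x * g⁻¹ ∈ Subgroup.zpowers (H254.PSP.fld 2 ρ) := hg ⟨x, Subgroup.mem_zpowers x, rfl⟩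
  obtain ⟨k, hk⟩ := h1
  have hk' : H254.PSP.fld 2 (ρ ^ k) = g * x * g⁻¹ := by rw [map_zpow]; exact hk
  refine ⟨g, ρ ^ k, ?_, ?_⟩
  · intro h
    have h2 : ρ ^ k = 1 := h
    rw [h2, map_one] at hk'
    have h4 : x = 1 := by
      have := hk'.symm
      rwa [mul_inv_eq_one, mul_eq_left] at this
    rw [h4, orderOf_one] at hx
    exact ht.one_lt.ne hx
  · rw [H966.PSpAut.eq_Psi_frob, ← hk']
    rfl

theorem card_out_dvd {p f : ℕ} (hp : p.Prime) (hf : 1 ≤ f) (hF : Fintype.card F = p ^ f) (h3 : 3 ≤ Fintype.card F)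
    (hZ : Subgroup.center (PSp 2 F) = ⊥) : Nat.card (Cfsg.Out (PSp 2 F)) ∣ 4 * f := by
  rw [card_out_psp hp hf hF (le_refl 2) (fun _ => h3) hZ]
  apply Nat.mul_dvd_mul_right
  rw [show (4 : ℕ) = 2 * 2 from rfl]
  apply Nat.mul_dvd_mul _ (Nat.gcd_dvd_left _ _)
  split_ifs
  · exact dvd_rfl
  · exact one_dvd _

/-- non-adjacency of the two tori -/
theorem not_adj_tori {p f : ℕ} (hp : p.Prime) (hF : Fintype.card F = p ^ f) (h3 : 3 ≤ Fintype.card F) {r s : ℕ}
    (hr : r.Prime) (hs : s.Prime) (hr2 : r ≠ 2) (hs2 : s ≠ 2) (h1 : r ∣ Fintype.card F ^ 2 - 1)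
    (h2 : s ∣ Fintype.card F ^ 2 + 1) : ¬ Adj (PSp 2 F) r s := by
  have := Fact.mk hp
  have := charP_of hp hF
  have hq : 1 ≤ Fintype.card F := Fintype.card_pos
  have hf : 1 ≤ f := by
    rcases Nat.eq_zero_or_pos f with h | h
    · rw [h, pow_zero] at hF; omega
    · exact h
  have e1 := eta_one hq h1
  have e2 := ord_four hq hs hs2 h2
  have h4 : ∀ k l : ℕ, 1 ≤ k → (Fintype.card F ^ k + 1 = l ∨ Fintype.card F ^ k - 1 = l) → ¬ p ∣ l := by
    rintro k l hk (rfl | rfl)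
    · rw [hF, ← pow_mul]; exact PGL2.not_dvd_succ hp (Nat.mul_pos hf hk)
    · rw [hF, ← pow_mul]; exact PGL2.not_dvd_pred hp (Nat.mul_pos hf hk)
  have hrp : r ≠ p := by rintro rfl; exact h4 2 _ (by norm_num) (Or.inr rfl) h1
  have hsp : s ≠ p := by rintro rfl; exact h4 2 _ (by norm_num) (Or.inl rfl) h2
  have hrs : r ≠ s := by
    rintro rfl
    rw [Cfsg.Agent.Lib.Zsigmondy.dvd_pow_sub_one_iff hq, e2] at h1
    norm_num at h1
  have d1 := dvd_psp (F := F) (n := 2) (k := 1) (by norm_num) hr hr2 le_rfl (by norm_num) h1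
  have d2 := dvd_psp (F := F) (n := 2) (k := 2) (by norm_num) hs hs2 (by norm_num) le_rfl
    (dvd_pow_sub_one_of_orderOf hq e2 dvd_rfl)
  have h := (S2469.result (F := F) p 2 le_rfl (fun _ => h3) r s hr hs hr2 hs2 hrp hsp hrs d1 d2 _ _ 1 2 rfl rfl e1
    (by rw [e2]; exact Or.inr ⟨by decide, rfl⟩) (by norm_num)).2 ⟨by norm_num, ?_⟩
  · exact fun ⟨g, hg⟩ => h ⟨g, hg⟩
  · rintro ⟨t, ht, h5⟩
    rw [e2] at h5
    rcases e1 with ⟨-, h6⟩ | ⟨-, h6⟩
    · rw [← h6, one_mul] at h5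
      rw [← h5] at ht
      exact absurd ht (by decide)
    · rw [← h6] at h5
      have h7 : t = 2 := by omega
      rw [h7] at ht
      exact absurd ht (by decide)

/-- the case of a coprime field automorphism -/
theorem case_cop {p f : ℕ} (hp : p.Prime) (hf : 1 ≤ f) (hF : Fintype.card F = p ^ f) (h3 : 3 ≤ Fintype.card F)
    (hZ : Subgroup.center (PSp 2 F) = ⊥) {A : Subgroup (MulAut (PSp 2 F))} (hA : Inn (PSp 2 F) ≤ A) {t : ℕ}
    (ht : t.Prime) (htA : t ∣ Nat.card A) (htS : ¬ t ∣ Nat.card (PSp 2 F)) : Has3 A := by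
  have hFact := Fact.mk hp
  have h2t : t ≠ 2 := fun h => htS (h ▸ two_dvd)
  have h3t : t ≠ 3 := fun h => htS (h ▸ three_dvd)
  have ht5 : 5 ≤ t := by
    have := ht.two_le
    by_contra hcon
    have : t = 4 := by omega
    subst this
    exact absurd ht (by norm_num)
  have htO : t ∣ Nat.card (Cfsg.Out (PSp 2 F)) := by
    have h1 : t ∣ (Inn (PSp 2 F)).relIndex A := by
      rw [card_A hZ hA] at htA
      exact (ht.dvd_mul.1 htA).resolve_right htS
    exact h1.trans ((Subgroup.relIndex_dvd_index_of_normal (Inn (PSp 2 F)) A))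
  have htf : t ∣ f := by
    rcases ht.dvd_mul.1 (htO.trans (card_out_dvd hp hf hF h3 hZ)) with h | h
    · have h4 : t ∣ 2 ^ 2 := h
      exact absurd ((Nat.prime_dvd_prime_iff_eq ht Nat.prime_two).1 (ht.dvd_of_dvd_pow h4)) h2t
    · exact h
  have hf5 : 5 ≤ f := ht5.trans (Nat.le_of_dvd hf htf)
  have hq : 1 ≤ Fintype.card F := Fintype.card_pos
  obtain ⟨r, hr⟩ := Ppd.exists (p := p) (n := f * 2) hp.two_le (by omega) (by omega)
  obtain ⟨s, hs⟩ := Ppd.exists (p := p) (n := f * 4) hp.two_le (by omega) (by omega)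
  have hr2 := hr.ne_two (by omega)
  have hs2 := hs.ne_two (by omega)
  have hr1 : r ∣ Fintype.card F ^ 2 - 1 := by rw [hF, ← pow_mul, hr.dvd_iff hp.pos]
  have hs4 : s ∣ Fintype.card F ^ 4 - 1 := by rw [hF, ← pow_mul, hs.dvd_iff hp.pos]
  have hs1 : s ∣ Fintype.card F ^ 2 + 1 := by
    have h2 : Fintype.card F ^ 4 - 1 = (Fintype.card F ^ 2 + 1) * (Fintype.card F ^ 2 - 1) := by
      have := Nat.sq_sub_sq (Fintype.card F ^ 2) 1
      simpa [← pow_mul] using this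
    rw [h2] at hs4
    rcases hs.prime.dvd_mul.1 hs4 with h | h
    · exact h
    · exfalso
      rw [hF, ← pow_mul, hs.dvd_iff hp.pos] at h
      have := Nat.le_of_dvd (by omega) h
      omega
  have dr := dvd_psp (F := F) (n := 2) (k := 1) (by norm_num) hr.prime hr2 le_rfl (by norm_num) hr1
  have ds := dvd_psp (F := F) (n := 2) (k := 2) (by norm_num) hs.prime hs2 (by norm_num) le_rfl hs4
  have hrs : r ≠ s := hr.ne_of_ne hs (by omega)
  have htr : t ≠ r := fun h => htS (h ▸ dr)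
  have hts : t ≠ s := fun h => htS (h ▸ ds)
  have hO : ∀ {N u : ℕ}, Ppd p N u → f ≤ N → ¬ u ∣ Nat.card (Cfsg.Out (PSp 2 F)) := by
    intro N u hu hN h
    rcases hu.prime.dvd_mul.1 (h.trans (card_out_dvd hp hf hF h3 hZ)) with h | h
    · have h4 : u ∣ 2 ^ 2 := h
      exact hu.ne_two (by omega) ((Nat.prime_dvd_prime_iff_eq hu.prime Nat.prime_two).1 (hu.prime.dvd_of_dvd_pow h4))
    · exact hu.not_dvd_mul hN hf h
  have key : ∀ {N u : ℕ}, Ppd p N u → (N = f * 2 ∨ N = f * 4) → t ≠ u → ¬ Adj A t u := by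
    intro N u hu hN htu
    have hN' : f ≤ N := by omega
    refine not_adj hZ ht hu.prime htu (inndiagPSp 2 F) H202.PspSplit.inn_le
      (fun y _ hy => inner_of_not_dvd hu.prime (hO hu hN') hy) ?_ ?_
    · intro x _ hx
      right
      intro hd
      obtain ⟨g, rfl⟩ := htf
      have hg : 0 < g := Nat.pos_of_ne_zero (by rintro rfl; omega)
      have : Fintype (GaloisField p g) := Fintype.ofFinite _
      have hF₀ : Fintype.card (GaloisField p g) = p ^ (t * g / t) := by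
        rw [Nat.mul_div_cancel_left _ ht.pos, ← Nat.card_eq_fintype_card, GaloisField.card p g hg.ne']
      obtain ⟨-, ⟨e⟩, -⟩ := S2712.result hF hf (le_refl 2) (fun _ => h3) x (field_of_cop h3 hZ ht htS hx) ht hx
        (GaloisField p g) hF₀
      rw [Nat.card_congr e.toEquiv] at hd
      rw [Nat.mul_div_cancel_left _ ht.pos] at hF₀
      rcases of_dvd_pgsp (by norm_num) hu.prime hd with h | ⟨k, hk1, hk2, h⟩
      · rw [hF₀] at h
        exact hu.not_dvd (by omega) (hu.prime.dvd_of_dvd_pow h)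
      · rw [hF₀, ← pow_mul, hu.dvd_iff hp.pos] at h
        have h5 := Nat.le_of_dvd (Nat.mul_pos hg (by omega)) h
        have h6 : g * (2 * k) ≤ g * 4 := Nat.mul_le_mul_left g (by omega)
        have h7 : t * g * 2 ≤ N := by omega
        have h8 : 5 * g ≤ t * g := Nat.mul_le_mul_right g ht5
        omega
    · rintro ⟨y, hy⟩
      apply htS
      exact (Dvd.intro _ rfl : t ∣ t * u).trans (hy ▸ orderOf_dvd_natCard y)
  refine ⟨t, r, s, ht, hr.prime, hs.prime, htr, hrs, hts, htA, dvd_card_A hZ hA dr, dvd_card_A hZ hA ds,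
    key hr (Or.inl rfl) htr, ?_, key hs (Or.inr rfl) hts⟩
  exact not_adj' hZ hr.prime hs.prime hrs (fun y _ hy => inner_of_not_dvd hr.prime (hO hr (by omega)) hy)
    (fun y _ hy => inner_of_not_dvd hs.prime (hO hs (by omega)) hy)
    (not_adj_tori hp hF h3 hr.prime hs.prime hr2 hs2 hr1 hs1)

/-! ### Adjacency in `PSp_4(q)` -/

open Cfsg.Agent.H150 in
/-- `2` and an odd prime divisor of `q ^ 2 - 1`, `q` odd -/
theorem exists_two_mul (h2 : (2 : F) ≠ 0) {s : ℕ} (hs : s.Prime) (hs2 : s ≠ 2) (h : s ∣ Fintype.card F ^ 2 - 1) :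
    ∃ g : PSp 2 F, orderOf g = 2 * s := by
  have : Finite (Matrix.symplecticGroup (Fin 1) F) := Subtype.finite
  have hcop : Nat.Coprime 2 s := (Nat.coprime_primes Nat.prime_two hs).2 hs2.symm
  have := Fact.mk hs
  obtain ⟨T, hT⟩ := exists_prime_orderOf_dvd_card' (G := Matrix.symplecticGroup (Fin 1) F) s (by
    rw [Cfsg.Agent.S0245.result (F := F) rfl 1, Finset.prod_range_one]
    exact h.mul_left _)
  have hT' : ∀ j : ℕ, (spLin T) ^ j = 1 ↔ s ∣ j := fun j => by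
    rw [spLin_pow_eq_one_iff, ← orderOf_dvd_iff_pow_eq_one, hT]
  have : Nonempty (Fin 1) := ⟨0⟩
  have hT'' : ∀ j : ℕ, (spLin T) ^ j ≠ -1 := by
    intro j hj
    have h1 : (spLin T) ^ (2 * j) = 1 := by
      rw [mul_comm, pow_mul, hj]; exact even_neg_one_pow_end even_two
    rw [hT'] at h1
    have h3 := (Nat.Coprime.dvd_mul_left hcop.symm).1 h1
    rw [(hT' j).2 h3] at hj
    exact neg_one_ne_one_end h2 hj.symm
  refine exists_psp_of_prod (a := 1) (b := 1) le_rfl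
    (⟨-1, SymplecticGroup.neg_mem (Submonoid.one_mem _)⟩) T ?_
  have hneg : spLin (⟨-1, SymplecticGroup.neg_mem (Submonoid.one_mem _)⟩ : Matrix.symplecticGroup (Fin 1) F) =
      -1 := by
    unfold spLin
    rw [map_neg, map_one]
  rw [hneg]
  intro j
  constructor
  · rintro (⟨h1, h3⟩ | ⟨-, h3⟩)
    · have hevj : Even j := by
        by_contra hodd
        rw [Nat.not_even_iff_odd] at hodd
        rw [odd_neg_one_pow_end hodd] at h1
        exact neg_one_ne_one_end h2 h1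
      exact hcop.mul_dvd_of_dvd_of_dvd hevj.two_dvd ((hT' j).1 h3)
    · exact absurd h3 (hT'' j)
  · intro hj
    left
    exact ⟨even_neg_one_pow_end (even_iff_two_dvd.2 ((Dvd.intro _ rfl).trans hj)),
      (hT' j).2 ((Dvd.intro_left _ rfl).trans hj)⟩

/-- adjacency of the primes on the same side -/
theorem adj_same {p f : ℕ} (hp : p.Prime) (hf : 1 ≤ f) (hF : Fintype.card F = p ^ f) (h3 : 3 ≤ Fintype.card F) {r s : ℕ}
    (hr : r.Prime) (hs : s.Prime) (hrs : r ≠ s) (hrG : r ∣ Nat.card (PSp 2 F)) (hsG : s ∣ Nat.card (PSp 2 F))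
    (hX : (r ≠ 2 ∧ r ∣ Fintype.card F ^ 2 + 1) ↔ (s ≠ 2 ∧ s ∣ Fintype.card F ^ 2 + 1)) : Adj (PSp 2 F) r s := by
  have := Fact.mk hp
  have := charP_of hp hF
  have hq : 1 ≤ Fintype.card F := Fintype.card_pos
  by_cases h : r ≠ 2 ∧ r ∣ Fintype.card F ^ 2 + 1
  · obtain ⟨hr2, hr1⟩ := h
    obtain ⟨hs2, hs1⟩ := hX.1 ⟨hr2, hr1⟩
    have er := ord_four hq hr hr2 hr1
    have es := ord_four hq hs hs2 hs1
    have hp' : ¬ p ∣ Fintype.card F ^ 2 + 1 := by
      rw [hF, ← pow_mul]; exact PGL2.not_dvd_succ hp (Nat.mul_pos hf (by norm_num))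
    have hrp : r ≠ p := by rintro rfl; exact hp' hr1
    have hsp : s ≠ p := by rintro rfl; exact hp' hs1
    by_contra hcon
    have h5 := (S2469.result (F := F) p 2 le_rfl (fun _ => h3) r s hr hs hr2 hs2 hrp hsp hrs hrG hsG _ _ 2 2 rfl rfl
      (by rw [er]; exact Or.inr ⟨by decide, rfl⟩) (by rw [es]; exact Or.inr ⟨by decide, rfl⟩) le_rfl).1
      (fun ⟨g, hg⟩ => hcon ⟨g, hg⟩)
    exact h5.2 ⟨1, odd_one, by rw [er, es]⟩
  · have h' : ¬ (s ≠ 2 ∧ s ∣ Fintype.card F ^ 2 + 1) := fun h1 => h (hX.2 h1)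
    -- the types of the primes
    have ty : ∀ {u : ℕ}, u.Prime → u ∣ Nat.card (PSp 2 F) → ¬ (u ≠ 2 ∧ u ∣ Fintype.card F ^ 2 + 1) →
        u = p ∨ u = 2 ∨ (u ≠ 2 ∧ u ∣ Fintype.card F ^ 2 - 1) := by
      intro u hu huG hn
      by_cases hu2 : u = 2
      · exact Or.inr (Or.inl hu2)
      rcases primes hu huG with h1 | h1 | h1
      · left
        rw [hF] at h1
        exact (Nat.prime_dvd_prime_iff_eq hu hp).1 (hu.dvd_of_dvd_pow h1)
      · exact Or.inr (Or.inr ⟨hu2, h1⟩)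
      · exact absurd ⟨hu2, h1⟩ hn
    have char : ∀ {u : ℕ}, u.Prime → u ≠ p → u ∣ Nat.card (PSp 2 F) → (u = 2 ∨ (u ≠ 2 ∧ u ∣ Fintype.card F ^ 2 - 1)) →
        Adj (PSp 2 F) u p := by
      intro u hu hup huG hty
      rcases hty with rfl | ⟨hu2, h1⟩
      · have h2 : (2 : F) ≠ 0 := by
          intro h2
          exact hup ((Nat.prime_dvd_prime_iff_eq hp Nat.prime_two).1 ((CharP.cast_eq_zero_iff F p 2).1 (by exact_mod_cast h2))).symm
        obtain ⟨g, hg⟩ := H150.exists_psp_two_p (F := F) p h2 (le_refl 2)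
        exact ⟨g, hg⟩
      · by_contra hcon
        have h5 := (S2472.result (F := F) p 2 le_rfl (fun _ => h3) u hu hu2 hup huG _ 1 rfl (eta_one hq h1)).1
          (fun ⟨g, hg⟩ => hcon ⟨g, hg⟩)
        norm_num at h5
    by_cases hrp : r = p
    · subst hrp
      exact (char hs (Ne.symm hrs) hsG ((ty hs hsG h').resolve_left (Ne.symm hrs))).symm
    by_cases hsp : s = p
    · subst hsp
      exact char hr hrs hrG ((ty hr hrG h).resolve_left hrs)
    have two : ∀ {u : ℕ}, u.Prime → u ≠ 2 → u ∣ Fintype.card F ^ 2 - 1 → p ≠ 2 → Adj (PSp 2 F) 2 u := by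
      intro u hu hu2 h1 hp2
      have h2 : (2 : F) ≠ 0 := by
        intro h2
        exact hp2 ((Nat.prime_dvd_prime_iff_eq hp Nat.prime_two).1 ((CharP.cast_eq_zero_iff F p 2).1 (by exact_mod_cast h2)))
      obtain ⟨g, hg⟩ := exists_two_mul h2 hu hu2 h1
      exact ⟨g, hg⟩
    rcases (ty hr hrG h).resolve_left hrp with rfl | ⟨hr2, hr1⟩
    · rcases (ty hs hsG h').resolve_left hsp with rfl | ⟨hs2, hs1⟩
      · exact absurd rfl hrs
      · exact two hs hs2 hs1 (Ne.symm hrp)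
    · rcases (ty hs hsG h').resolve_left hsp with rfl | ⟨hs2, hs1⟩
      · exact (two hr hr2 hr1 (Ne.symm hsp)).symm
      · by_contra hcon
        have h5 := (S2469.result (F := F) p 2 le_rfl (fun _ => h3) r s hr hs hr2 hs2 hrp hsp hrs hrG hsG _ _ 1 1 rfl rfl
          (eta_one hq hr1) (eta_one hq hs1) le_rfl).1 (fun ⟨g, hg⟩ => hcon ⟨g, hg⟩)
        norm_num at h5

theorem goalA_psp_two (h3 : 3 ≤ Fintype.card F) (hZ : Subgroup.center (PSp 2 F) = ⊥) : GoalA (PSp 2 F) := by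
  intro A hA
  obtain ⟨p, f, hp, hf, hF⟩ := exists_pf F
  by_cases h : ∃ t : ℕ, t.Prime ∧ t ∣ Nat.card A ∧ ¬ t ∣ Nat.card (PSp 2 F)
  · obtain ⟨t, ht, htA, htS⟩ := h
    exact Or.inl (case_cop hp hf hF h3 hZ hA ht htA htS)
  · push Not at h
    right
    exact ⟨fun t => t ≠ 2 ∧ t ∣ Fintype.card F ^ 2 + 1, fun r s hr hs hrs hrA hsA hX =>
      adj_A hZ hA (adj_same hp hf hF h3 hr hs hrs (h r hr hrA) (h s hs hsA) hX)⟩

/-- **The row `PSp_4(q)`, `q ≥ 3`.** -/
theorem goal_psp_two.{b} (h3 : 3 ≤ Fintype.card F) (hZ : Subgroup.center (PSp 2 F) = ⊥) : Goal.{u, b} (PSp 2 F) :=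
  goal_of_goalA (goalA_psp_two h3 hZ)

end

end Cfsg.Agent.H171.PGS4
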