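import Mathlib
import Cfsg.Agent.H171.DegIneqTwo

/-!
# An inequality for low degree characters of symmetric groups (for S4905, task of helper704), part 3:
the version with `20 (m + k) ≤ 19 n + 20`
-/

set_option autoImplicit false

namespace Cfsg.Agent.H171.DegIneq

open Nat

theorem two_mul_pow_self_le (t : ℕ) : 2 * t ^ t ≤ 2 * (t + 1) ^ t ∧ (1 ≤ t → 2 * t ^ t ≤ (t + 1) ^ t) := by
  refine ⟨Nat.mul_le_mul_left _ (Nat.pow_le_pow_left (by omega) t), fun ht => ?_⟩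
  obtain ⟨u, rfl⟩ : ∃ u, t = u + 1 := ⟨t - 1, by omega⟩
  have h1 : (u + 1) ^ (u + 1) + (u + 1) * (u + 1) ^ u ≤ (u + 1 + 1) ^ (u + 1) := by
    have h := one_add_mul_le_pow (R := ℝ) (a := 1 / (u + 1 : ℝ)) (by
      have : (0 : ℝ) ≤ 1 / (u + 1 : ℝ) := by positivity
      linarith) (u + 1)
    have h2 : ((u + 1 : ℕ) : ℝ) * (1 / (u + 1 : ℝ)) = 1 := by
      push_cast
      field_simp
    rw [h2] at h
    have h3 : (1 + 1 / (u + 1 : ℝ)) = ((u + 1 + 1 : ℕ) : ℝ) / ((u + 1 : ℕ) : ℝ) := by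
      push_cast
      field_simp
    rw [h3, div_pow, le_div_iff₀ (by positivity)] at h
    have h4 : (2 * (u + 1) ^ (u + 1) : ℕ) ≤ ((u + 1 + 1) ^ (u + 1) : ℕ) := by
      have h5 : ((2 * (u + 1) ^ (u + 1) : ℕ) : ℝ) ≤ (((u + 1 + 1) ^ (u + 1) : ℕ) : ℝ) := by
        push_cast at h ⊢
        linarith
      exact_mod_cast h5
    calc (u + 1) ^ (u + 1) + (u + 1) * (u + 1) ^ u = 2 * (u + 1) ^ (u + 1) := by rw [pow_succ]; ring
      _ ≤ _ := h4
  calc 2 * (u + 1) ^ (u + 1) = (u + 1) ^ (u + 1) + (u + 1) * (u + 1) ^ u := by rw [pow_succ]; ring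
    _ ≤ _ := h1

/-- `2^t t! ≤ 2 t^t` -/
theorem two_pow_mul_factorial_le (t : ℕ) : 2 ^ t * t ! ≤ 2 * t ^ t := by
  induction t with
  | zero => simp
  | succ t ih =>
    rcases Nat.eq_zero_or_pos t with h0 | h0
    · subst h0
      simp
    · have h1 := (two_mul_pow_self_le t).2 h0
      calc 2 ^ (t + 1) * (t + 1)! = 2 * (t + 1) * (2 ^ t * t !) := by rw [Nat.factorial_succ]; ring
        _ ≤ 2 * (t + 1) * (2 * t ^ t) := Nat.mul_le_mul_left _ ih
        _ ≤ 2 * (t + 1) * (t + 1) ^ t := Nat.mul_le_mul_left _ h1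
        _ = 2 * (t + 1) ^ (t + 1) := by ring

theorem le_choose' {N t : ℕ} (ht : 0 < t) (h : 21 * t ≤ 2 * N) : 19 ^ t ≤ 2 * N.choose t := by
  have h1 := Nat.pow_sub_le_descFactorial N t
  rw [Nat.descFactorial_eq_factorial_mul_choose] at h1
  have h2 := two_pow_mul_factorial_le t
  have h3 : t ^ t * 19 ^ t ≤ t ^ t * (2 * N.choose t) := by
    calc t ^ t * 19 ^ t = (19 * t) ^ t := by rw [mul_pow, mul_comm]
      _ ≤ (2 * (N + 1 - t)) ^ t := Nat.pow_le_pow_left (by omega) t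
      _ = 2 ^ t * (N + 1 - t) ^ t := mul_pow _ _ _
      _ ≤ 2 ^ t * (t ! * N.choose t) := Nat.mul_le_mul_left _ h1
      _ = (2 ^ t * t !) * N.choose t := by ring
      _ ≤ (2 * t ^ t) * N.choose t := Nat.mul_le_mul_right _ h2
      _ = t ^ t * (2 * N.choose t) := by ring
  exact Nat.le_of_mul_le_mul_left h3 (Nat.pow_pos ht)

theorem exp_le' : Real.exp (5 / 2) ≤ 49 / 4 := by
  have h1 : Real.exp (5 / 2) = Real.exp (5 / 4) ^ 2 := by
    rw [← Real.exp_nat_mul]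
    congr 1
    norm_num
  rw [h1]
  calc Real.exp (5 / 4) ^ 2 ≤ (7 / 2 : ℝ) ^ 2 := pow_le_pow_left₀ (Real.exp_pos _).le exp_le 2
    _ = 49 / 4 := by norm_num

theorem num_ineq' (t : ℕ) (ht : 60 ≤ t) : 604 * 2 ^ t * (20 * t + 39) ^ 2 < 3 ^ t := by
  induction t, ht using Nat.le_induction with
  | base => norm_num
  | succ t ht ih =>
    have h1 : 2 * (20 * (t + 1) + 39) ^ 2 ≤ 3 * (20 * t + 39) ^ 2 := by nlinarith
    calc 604 * 2 ^ (t + 1) * (20 * (t + 1) + 39) ^ 2 = (604 * 2 ^ t) * (2 * (20 * (t + 1) + 39) ^ 2) := by ring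
      _ ≤ (604 * 2 ^ t) * (3 * (20 * t + 39) ^ 2) := Nat.mul_le_mul_left _ h1
      _ = 3 * (604 * 2 ^ t * (20 * t + 39) ^ 2) := by ring
      _ < 3 * 3 ^ t := by omega
      _ = 3 ^ (t + 1) := by ring

/-- **the inequality for `20 (m + k) ≤ 19 n + 20`, `n ≥ 1300`** -/
theorem ineq_large20 {n m k : ℕ} (hn : 1300 ≤ n) (hm : 3 ≤ m) (hk : 1 ≤ k) (hkm : k ≤ m)
    (h : 20 * (m + k) ≤ 19 * n + 20) :
    m.factorial * n * (m + k) * 2 ^ k < n.descFactorial (k - 1) * (n - (2 * k - 1)).descFactorial (m - k + 1) := by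
  rcases Nat.lt_or_ge n (2 * (m + k)) with h2 | h2
  swap
  · exact ineq_half (by omega) hm hk hkm h2
  obtain ⟨N, hN⟩ : ∃ N, n = N + k := ⟨n - k, by omega⟩
  obtain ⟨s, hs⟩ : ∃ s, N = m + s := ⟨N - m, by omega⟩
  refine reduce hk hkm hN hs ?_
  obtain ⟨t, ht⟩ : ∃ t, t = n / 20 - 1 := ⟨_, rfl⟩
  have ht1 : 20 * t + 20 ≤ n := by omega
  have ht2 : n ≤ 20 * t + 39 := by omega
  have ht3 : t ≤ s := by omega
  have ht4 : t + s ≤ N := by omega
  have hC : N.choose t ≤ N.choose s := choose_ge ht3 ht4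
  have hC2 : 19 ^ t ≤ 2 * N.choose t := le_choose' (by omega) (by omega)
  -- to the real numbers
  have hn' : (0 : ℝ) < n := by exact_mod_cast (show 0 < n by omega)
  have hA : ((2 * N : ℝ) / n) ^ k ≤ (49 / 4) ^ (t + 2) := by
    refine (two_mul_pow_le (by omega) hN).trans ?_
    have h3 : (n : ℝ) / 8 ≤ ((t + 2 : ℕ) : ℝ) * (5 / 2) := by
      have : (n : ℝ) ≤ 20 * t + 39 := by exact_mod_cast ht2
      push_cast
      linarith
    calc Real.exp (n / 8) ≤ Real.exp (((t + 2 : ℕ) : ℝ) * (5 / 2)) := Real.exp_le_exp.2 h3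
      _ = Real.exp (5 / 2) ^ (t + 2) := Real.exp_nat_mul _ _
      _ ≤ (49 / 4) ^ (t + 2) := pow_le_pow_left₀ (Real.exp_pos _).le exp_le' _
  have hB : (2 * N : ℝ) ^ k ≤ (49 / 4) ^ (t + 2) * (n : ℝ) ^ k := by
    rw [div_pow, div_le_iff₀ (by positivity)] at hA
    exact hA
  have hmk : (m + k : ℝ) ≤ n := by exact_mod_cast (show m + k ≤ n by omega)
  have hnt : (n : ℝ) ≤ 20 * t + 39 := by exact_mod_cast ht2
  have hnum : (604 * 2 ^ t * (20 * t + 39) ^ 2 : ℝ) < 3 ^ t := by exact_mod_cast num_ineq' t (by omega)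
  have hC3 : (19 : ℝ) ^ t ≤ 2 * (N.choose s : ℝ) := by
    have h5 : 19 ^ t ≤ 2 * N.choose s := hC2.trans (Nat.mul_le_mul_left _ hC)
    exact_mod_cast h5
  have hN2 : n ≤ 2 * N := by omega
  have hN3 : (n : ℝ) ≤ 2 * N := by exact_mod_cast hN2
  have goal : ((n * (m + k) * 2 ^ k * N ^ (k - 1) : ℕ) : ℝ) < ((n ^ (k - 1) * N.choose s : ℕ) : ℝ) := by
    push_cast
    have hNpos : (0 : ℝ) < N := by
      have : 0 < N := by omega
      exact_mod_cast this
    have hk' : k - 1 + 1 = k := by omega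
    have h6 : (2 : ℝ) ^ k * (N : ℝ) ^ (k - 1) * N = (2 * N) ^ k := by
      rw [mul_pow, mul_assoc, ← pow_succ, hk']
    have h7 : (n : ℝ) ^ (k - 1) * n = (n : ℝ) ^ k := by rw [← pow_succ, hk']
    have hnk : (0 : ℝ) < (n : ℝ) ^ k := by positivity
    have h8 : (n : ℝ) * (m + k) * (49 / 4) ^ (t + 2) * 2 < (N.choose s : ℝ) := by
      have h9 : (n : ℝ) * (m + k) ≤ (20 * t + 39) ^ 2 := by
        have h10 : (0 : ℝ) ≤ m + k := by positivity
        calc (n : ℝ) * (m + k) ≤ n * n := mul_le_mul_of_nonneg_left hmk hn'.le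
          _ ≤ (20 * t + 39) * (20 * t + 39) := mul_le_mul hnt hnt hn'.le (by positivity)
          _ = (20 * t + 39) ^ 2 := by ring
      have h11 : (49 / 4 : ℝ) ^ (t + 2) * 2 ≤ 302 * (49 / 4) ^ t := by
        rw [pow_add]
        have : (0 : ℝ) < (49 / 4) ^ t := by positivity
        nlinarith
      have h12 : (n : ℝ) * (m + k) * (49 / 4) ^ (t + 2) * 2 ≤ (20 * t + 39) ^ 2 * (302 * (49 / 4) ^ t) := by
        calc (n : ℝ) * (m + k) * (49 / 4) ^ (t + 2) * 2 = (n : ℝ) * (m + k) * ((49 / 4) ^ (t + 2) * 2) := by ring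
          _ ≤ (20 * t + 39) ^ 2 * (302 * (49 / 4) ^ t) := mul_le_mul h9 h11 (by positivity) (by positivity)
      have h13 : (20 * t + 39 : ℝ) ^ 2 * (302 * (49 / 4) ^ t) * (2 * 2 ^ t) < (N.choose s : ℝ) * (2 * 2 ^ t) := by
        have h14 : (3 : ℝ) ^ t * (49 / 4) ^ t ≤ 19 ^ t * 2 ^ t := by
          rw [← mul_pow, ← mul_pow]
          exact pow_le_pow_left₀ (by norm_num) (by norm_num) t
        calc (20 * t + 39 : ℝ) ^ 2 * (302 * (49 / 4) ^ t) * (2 * 2 ^ t)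
            = (604 * 2 ^ t * (20 * t + 39) ^ 2) * (49 / 4) ^ t := by ring
          _ < 3 ^ t * (49 / 4) ^ t := mul_lt_mul_of_pos_right hnum (by positivity)
          _ ≤ 19 ^ t * 2 ^ t := h14
          _ ≤ (2 * (N.choose s : ℝ)) * 2 ^ t := mul_le_mul_of_nonneg_right hC3 (by positivity)
          _ = (N.choose s : ℝ) * (2 * 2 ^ t) := by ring
      exact lt_of_le_of_lt h12 (lt_of_mul_lt_mul_right h13 (by positivity))
    have h15 : (n : ℝ) * (m + k) * 2 ^ k * N ^ (k - 1) * (N * 2) < n ^ (k - 1) * (N.choose s) * (N * 2) := by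
      calc (n : ℝ) * (m + k) * 2 ^ k * N ^ (k - 1) * (N * 2) = (n : ℝ) * (m + k) * 2 * (2 * N) ^ k := by
            rw [← h6]; ring
        _ ≤ (n : ℝ) * (m + k) * 2 * ((49 / 4) ^ (t + 2) * (n : ℝ) ^ k) := by
            apply mul_le_mul_of_nonneg_left hB (by positivity)
        _ = ((n : ℝ) * (m + k) * (49 / 4) ^ (t + 2) * 2) * (n : ℝ) ^ k := by ring
        _ < (N.choose s : ℝ) * (n : ℝ) ^ k := mul_lt_mul_of_pos_right h8 hnk
        _ = n ^ (k - 1) * (N.choose s) * n := by rw [← h7]; ring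
        _ ≤ n ^ (k - 1) * (N.choose s) * (N * 2) := by
            apply mul_le_mul_of_nonneg_left _ (by positivity)
            linarith
    exact lt_of_mul_lt_mul_right h15 (by positivity)
  exact_mod_cast goal

end Cfsg.Agent.H171.DegIneq
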