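import Mathlib
import Cfsg.Agent.H171.PGS4
import Cfsg.Agent.H150.FarSp

/-!
# Three pairwise non-adjacent primes of `PSL_2(q)`; two non-adjacent primes of `PSp_4(q)`
-/

set_option autoImplicit false

namespace Cfsg.Agent.H171.Has3L2

open Cfsg Cfsg.Agent.H163.PG Cfsg.Agent.H171.PGL2
open Matrix

universe u

variable {F : Type u} [Field F] [Fintype F]

/-- three pairwise non-adjacent primes of `PSL_2(q)`, `q ≥ 4` -/
theorem has3_psl_two (h4 : 4 ≤ Fintype.card F) : Has3 (Matrix.ProjectiveSpecialLinearGroup (Fin 2) F) := by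
  obtain ⟨p, f, hp, hf, hF⟩ := exists_pf F
  have hd : Nat.gcd 2 (Fintype.card F - 1) = 1 ∨ Nat.gcd 2 (Fintype.card F - 1) = 2 :=
    (Nat.dvd_prime Nat.prime_two).1 (Nat.gcd_dvd_left 2 _)
  have hq4 : Nat.gcd 2 (Fintype.card F - 1) = 2 → 5 ≤ Fintype.card F := by
    intro h
    by_contra hcon
    have h5 : Fintype.card F = 4 := by omega
    rw [h5] at h
    norm_num at h
  obtain ⟨r, hr, hr'⟩ := Nat.exists_prime_and_dvd (show (Fintype.card F - 1) / Nat.gcd 2 (Fintype.card F - 1) ≠ 1 by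
    rcases hd with hd | hd
    · rw [hd, Nat.div_one]; omega
    · rw [hd]
      have := hq4 hd
      omega)
  obtain ⟨s, hs, hs'⟩ := Nat.exists_prime_and_dvd (show (Fintype.card F + 1) / Nat.gcd 2 (Fintype.card F - 1) ≠ 1 by
    rcases hd with hd | hd
    · rw [hd, Nat.div_one]; omega
    · rw [hd]
      have := hq4 hd
      omega)
  have hrs : r ≠ s := by
    rintro rfl
    exact coprime_half h4 hr hr' hs'
  have hpr : p ≠ r := by
    rintro rfl
    have := hr'.trans (half_dvd_pred _)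
    rw [hF] at this
    exact not_dvd_pred hp hf this
  have hps : p ≠ s := by
    rintro rfl
    have := hs'.trans (half_dvd_succ h4)
    rw [hF] at this
    exact not_dvd_succ hp hf this
  exact ⟨p, r, s, hp, hr, hs, hpr, hrs, hps, char_dvd hp hf hF,
    dvd_card_of_half h4 (Or.inl hr'), dvd_card_of_half h4 (Or.inr hs'),
    not_adj_char hp hf hF h4 hr hpr, not_adj_tori h4 hr hs hr' hs', not_adj_char hp hf hF h4 hs hps⟩

/-! ### `PSp_4(q)` -/

theorem exists_odd_succ {q : ℕ} (hq : 3 ≤ q) : ∃ s : ℕ, s.Prime ∧ s ≠ 2 ∧ s ∣ q ^ 2 + 1 := by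
  rcases Nat.eq_two_pow_or_exists_odd_prime_and_dvd (q ^ 2 + 1) with ⟨k, hk⟩ | ⟨s, hs, hd, ho⟩
  · exfalso
    have h9 : 3 ^ 2 ≤ q ^ 2 := Nat.pow_le_pow_left hq 2
    have hk2 : 2 ≤ k := by
      by_contra hcon
      have h1 : (2 : ℕ) ^ k ≤ 2 ^ 1 := Nat.pow_le_pow_right (by norm_num) (by omega)
      omega
    have h4 : 4 ∣ q ^ 2 + 1 := by rw [hk]; exact pow_dvd_pow 2 hk2
    have h5 : q % 4 = 0 ∨ q % 4 = 1 ∨ q % 4 = 2 ∨ q % 4 = 3 := by omega
    have h6 : q ^ 2 % 4 = 0 ∨ q ^ 2 % 4 = 1 := by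
      rw [Nat.pow_mod]
      rcases h5 with h | h | h | h <;> rw [h] <;> norm_num
    omega
  · exact ⟨s, hs, fun h => by rw [h] at ho; exact absurd ho (by decide), hd⟩

theorem exists_odd_pred {q : ℕ} (hq : 4 ≤ q) : ∃ s : ℕ, s.Prime ∧ s ≠ 2 ∧ s ∣ q ^ 2 - 1 := by
  rcases Nat.eq_two_pow_or_exists_odd_prime_and_dvd (q ^ 2 - 1) with ⟨k, hk⟩ | ⟨s, hs, hd, ho⟩
  · exfalso
    have h1 : q ^ 2 - 1 = (q + 1) * (q - 1) := by
      have := Nat.sq_sub_sq q 1
      simpa using this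
    obtain ⟨a, -, ha⟩ := (Nat.dvd_prime_pow Nat.prime_two).1 (show q + 1 ∣ 2 ^ k by rw [← hk, h1]; exact Dvd.intro _ rfl)
    obtain ⟨b, -, hb⟩ := (Nat.dvd_prime_pow Nat.prime_two).1 (show q - 1 ∣ 2 ^ k by rw [← hk, h1]; exact Dvd.intro_left _ rfl)
    have hb2 : 2 ≤ b := by
      by_contra hcon
      have : (2 : ℕ) ^ b ≤ 2 ^ 1 := Nat.pow_le_pow_right (by norm_num) (by omega)
      omega
    have ha2 : 2 ≤ a := by
      by_contra hcon
      have : (2 : ℕ) ^ a ≤ 2 ^ 1 := Nat.pow_le_pow_right (by norm_num) (by omega)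
      omega
    have h4 : 4 ∣ q + 1 := by rw [ha]; exact pow_dvd_pow 2 ha2
    have h5 : 4 ∣ q - 1 := by rw [hb]; exact pow_dvd_pow 2 hb2
    omega
  · exact ⟨s, hs, fun h => by rw [h] at ho; exact absurd ho (by decide), hd⟩

/-- `2` and `5` are not adjacent in `PSp_4(3)` -/
theorem not_adj_psp_three (hF : Fintype.card F = 3) : ¬ Adj (PSp 2 F) 2 5 := by
  have := Fact.mk Nat.prime_three
  have hc := charP_of Nat.prime_three (show Fintype.card F = 3 ^ 1 by rw [hF, pow_one])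
  have h2 : (2 : F) ≠ 0 := by
    intro h2
    have := (CharP.cast_eq_zero_iff F 3 2).1 (by exact_mod_cast h2)
    exact absurd this (by norm_num)
  obtain ⟨r, hr, hr2, hd, hg⟩ := H150.psp_far (F := F) (le_refl 2) (fun _ => by rw [hF])
  have hr5 : r = 5 := by
    rcases PGS4.primes hr hd with h | h | h
    · exfalso
      rw [hF] at h
      obtain rfl := (Nat.prime_dvd_prime_iff_eq hr Nat.prime_three).1 h
      obtain ⟨g, hg'⟩ := H150.exists_psp_two_p (F := F) 3 h2 (le_refl 2)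
      exact hg g hg'
    · exfalso
      rw [hF] at h
      have h3 : r ∣ 2 ^ 3 := h
      exact hr2 ((Nat.prime_dvd_prime_iff_eq hr Nat.prime_two).1 (hr.dvd_of_dvd_pow h3))
    · rw [hF] at h
      have h3 : r ∣ 2 * 5 := h
      rcases hr.dvd_mul.1 h3 with h | h
      · exact absurd ((Nat.prime_dvd_prime_iff_eq hr Nat.prime_two).1 h) hr2
      · exact (Nat.prime_dvd_prime_iff_eq hr Nat.prime_five).1 h
  rw [hr5] at hg
  exact fun ⟨g, h⟩ => hg g h

/-- two non-adjacent primes of `PSp_4(q)`, `q ≥ 3`, different from the characteristic -/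
theorem exists_not_adj_psp (h3 : 3 ≤ Fintype.card F) {p : ℕ} (hp : p.Prime) [CharP F p] :
    ∃ r s : ℕ, r.Prime ∧ s.Prime ∧ r ≠ s ∧ r ≠ p ∧ s ≠ p ∧ r ∣ Nat.card (PSp 2 F) ∧ s ∣ Nat.card (PSp 2 F) ∧
      ¬ Adj (PSp 2 F) r s := by
  obtain ⟨p', f, hp', hf, hF⟩ := exists_pf F
  obtain rfl : p = p' := CharP.eq F ‹CharP F p› (charP_of hp' hF)
  by_cases hq3 : Fintype.card F = 3
  · have hp3 : p = 3 := by
      have h1 : p ∣ 3 := by rw [← hq3, hF]; exact dvd_pow_self p (by omega)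
      exact (Nat.prime_dvd_prime_iff_eq hp Nat.prime_three).1 h1
    subst hp3
    refine ⟨2, 5, Nat.prime_two, Nat.prime_five, by norm_num, by norm_num, by norm_num, PGS4.two_dvd, ?_,
      not_adj_psp_three hq3⟩
    apply dvd_psp (k := 2) (by norm_num) Nat.prime_five (by norm_num) (by norm_num) le_rfl
    rw [hq3]
    norm_num
  · obtain ⟨s, hs, hs2, hsd⟩ := exists_odd_succ h3
    obtain ⟨r, hr, hr2, hrd⟩ := exists_odd_pred (show 4 ≤ Fintype.card F by omega)
    have h4 : Fintype.card F ^ 4 - 1 = (Fintype.card F ^ 2 + 1) * (Fintype.card F ^ 2 - 1) := by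
      have := Nat.sq_sub_sq (Fintype.card F ^ 2) 1
      simpa [← pow_mul] using this
    have hrp : r ≠ p := by
      rintro rfl
      rw [hF, ← pow_mul] at hrd
      exact not_dvd_pred hr (Nat.mul_pos hf (by norm_num)) hrd
    have hsp : s ≠ p := by
      rintro rfl
      rw [hF, ← pow_mul] at hsd
      exact not_dvd_succ hs (Nat.mul_pos hf (by norm_num)) hsd
    have hna := PGS4.not_adj_tori hp hF h3 hr hs hr2 hs2 hrd hsd
    refine ⟨r, s, hr, hs, ?_, hrp, hsp, ?_, ?_, hna⟩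
    · rintro rfl
      have h5 : r ∣ (Fintype.card F ^ 2 + 1) - (Fintype.card F ^ 2 - 1) := Nat.dvd_sub hsd hrd
      have h6 : 1 ≤ Fintype.card F ^ 2 := Nat.one_le_pow _ _ Fintype.card_pos
      rw [show Fintype.card F ^ 2 + 1 - (Fintype.card F ^ 2 - 1) = 2 by omega] at h5
      exact hr2 ((Nat.prime_dvd_prime_iff_eq hr Nat.prime_two).1 h5)
    · exact dvd_psp (k := 1) (by norm_num) hr hr2 le_rfl (by norm_num) hrd
    · exact dvd_psp (k := 2) (by norm_num) hs hs2 (by norm_num) le_rfl (by rw [show 2 * 2 = 4 from rfl, h4]; exact hsd.mul_right _)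

end Cfsg.Agent.H171.Has3L2
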